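import Mathlib.RingTheory.Flat.Basic
import Mathlib.RingTheory.FiniteType
import Mathlib.RingTheory.TensorProduct.Basic
import Mathlib.GroupTheory.Finiteness
import Mathlib.Algebra.MonoidAlgebra.Basic
import Groth.Agent.FixedSmooth.CoreAlg
/-!
An isomorphism of a flat algebra with a group algebra descends to a finitely generated subalgebra.
-/

set_option autoImplicit false

universe u

noncomputable section

namespace Groth.Agent.MultKer

open MonoidAlgebra TensorProduct

variable {R A₀ B B₁ : Type u} [CommRing R] [CommRing A₀] [CommRing B] [CommRing B₁] [Algebra R A₀] [Algebra R B]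
  [Algebra R B₁] {G : Type} [CommGroup G]

/-- The comparison of the base change with the group algebra. -/
def cmpHom (θ : A₀ →ₐ[R] MonoidAlgebra B G) : A₀ ⊗[R] B →ₐ[R] MonoidAlgebra B G :=
  Algebra.TensorProduct.lift θ (IsScalarTower.toAlgHom R B (MonoidAlgebra B G)) fun _ _ => Commute.all _ _

theorem cmpHom_tmul (θ : A₀ →ₐ[R] MonoidAlgebra B G) (a : A₀) (b : B) :
    cmpHom θ (a ⊗ₜ b) = θ a * single 1 b := by
  rw [cmpHom, Algebra.TensorProduct.lift_tmul]
  rfl

theorem exists_descend_alg [Algebra.FiniteType R A₀] [Module.Flat R A₀] [Group.FG G]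
    (θ : A₀ →ₐ[R] MonoidAlgebra B G) (hθ : Function.Bijective (cmpHom θ)) :
    ∃ s : Finset B, ∀ {B₁ : Type u} [CommRing B₁] [Algebra R B₁] (j : B₁ →ₐ[R] B), Function.Injective j →
      (∀ b ∈ s, b ∈ Set.range j) →
      ∃ θ₁ : A₀ →ₐ[R] MonoidAlgebra B₁ G, (∀ a, mapRingHom G j.toRingHom (θ₁ a) = θ a) ∧
        Function.Bijective (cmpHom θ₁) := by
  classical
  obtain ⟨gA, hgA⟩ := Algebra.FiniteType.out (R := R) (A := A₀)
  obtain ⟨gM, hgM⟩ := (Group.fg_def (G := G)).1 inferInstance
  choose T hT using fun w => TensorProduct.exists_finset (R := R) (M := A₀) (N := B) ((hθ.2 w).choose)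
  refine ⟨(gA.biUnion fun a => (θ a).coeff.support.image fun m => (θ a).coeff m) ∪
    ((gM ∪ gM.image (·⁻¹)).biUnion fun m => (T (of B G m)).image Prod.snd), fun {B₁} _ _ j hj hs => ?_⟩
  let n : MonoidAlgebra B₁ G →ₐ[R] MonoidAlgebra B G :=
    { mapRingHom G j.toRingHom with
      commutes' := fun x => by
        show mapRingHom G j.toRingHom (algebraMap R _ x) = algebraMap R _ x
        simp }
  have hn : Function.Injective n := fun a b h => by
    ext m
    refine hj ?_
    simpa [n] using congrArg (fun w => MonoidAlgebra.coeff w m) h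
  have hrange : ∀ a : A₀, θ a ∈ n.range := by
    intro a
    have ha : a ∈ Algebra.adjoin R (gA : Set A₀) := hgA ▸ Algebra.mem_top
    induction ha using Algebra.adjoin_induction with
    | mem x hx =>
      rw [← MonoidAlgebra.sum_coeff_single (θ x)]
      refine Subalgebra.sum_mem _ fun m hm => ?_
      obtain ⟨b', hb'⟩ := hs ((θ x).coeff m)
        (Finset.mem_union_left _ (Finset.mem_biUnion.2 ⟨x, hx, Finset.mem_image_of_mem _ hm⟩))
      exact ⟨single m b', by simp [n, hb']⟩
    | algebraMap x => rw [θ.commutes]; exact Subalgebra.algebraMap_mem _ x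
    | add x y _ _ hx hy => rw [map_add]; exact Subalgebra.add_mem _ hx hy
    | mul x y _ _ hx hy => rw [map_mul]; exact Subalgebra.mul_mem _ hx hy
  choose θf hθf using hrange
  let θ₁ : A₀ →ₐ[R] MonoidAlgebra B₁ G :=
    { toFun := θf
      map_one' := hn ((hθf 1).trans ((map_one θ).trans (map_one n).symm))
      map_mul' := fun a b => hn ((hθf _).trans (((map_mul θ a b).trans (by rw [← hθf a, ← hθf b]; rfl)).trans (map_mul n _ _).symm))
      map_zero' := hn ((hθf 0).trans ((map_zero θ).trans (map_zero n).symm))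
      map_add' := fun a b => hn ((hθf _).trans (((map_add θ a b).trans (by rw [← hθf a, ← hθf b]; rfl)).trans (map_add n _ _).symm))
      commutes' := fun x => hn ((hθf _).trans ((θ.commutes x).trans (n.commutes x).symm)) }
  have hθ₁ : ∀ a, n (θ₁ a) = θ a := hθf
  have hsq : ∀ x, n (cmpHom θ₁ x) = cmpHom θ (j.toLinearMap.lTensor A₀ x) := fun x => by
    induction x using TensorProduct.induction_on with
    | zero => simp
    | add x y hx hy => simp [map_add, hx, hy]
    | tmul a b =>
      rw [cmpHom_tmul, map_mul, hθ₁, LinearMap.lTensor_tmul, cmpHom_tmul]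
      simp [n]
  refine ⟨θ₁, hθ₁, fun x y h => ?_, ?_⟩
  · exact Module.Flat.lTensor_preserves_injective_linearMap j.toLinearMap hj (hθ.1 (by rw [← hsq, ← hsq, h]))
  have hgen : ∀ m ∈ gM ∪ gM.image (·⁻¹), of B₁ G m ∈ (cmpHom θ₁).range := fun m hm => by
    have hx := (hθ.2 (of B G m)).choose_spec
    rw [hT (of B G m)] at hx
    have hb : ∀ p ∈ T (of B G m), ∃ b', j b' = p.2 := fun p hp => hs p.2
      (Finset.mem_union_right _ (Finset.mem_biUnion.2 ⟨m, hm, Finset.mem_image_of_mem _ hp⟩))
    choose! b' hb' using hb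
    refine ⟨∑ p ∈ T (of B G m), p.1 ⊗ₜ[R] b' p, hn ?_⟩
    show n (cmpHom θ₁ _) = n (single m 1)
    rw [hsq, show n (single m 1) = of B G m by simp [n]]
    refine Eq.trans ?_ hx
    rw [map_sum, map_sum, map_sum]
    exact Finset.sum_congr rfl fun p hp => by rw [LinearMap.lTensor_tmul]; exact congrArg _ (congrArg _ (hb' p hp))
  have hm : ∀ m : G, of B₁ G m ∈ (cmpHom θ₁).range ∧ of B₁ G m⁻¹ ∈ (cmpHom θ₁).range := fun m => by
    induction (hgM ▸ Subgroup.mem_top m : m ∈ Subgroup.closure (gM : Set G)) using Subgroup.closure_induction with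
    | mem x hx => exact ⟨hgen x (Finset.mem_union_left _ hx),
        hgen _ (Finset.mem_union_right _ (Finset.mem_image_of_mem _ hx))⟩
    | one => exact ⟨by rw [map_one]; exact Subalgebra.one_mem _, by rw [inv_one, map_one]; exact Subalgebra.one_mem _⟩
    | mul x y _ _ hx hy =>
      rw [mul_inv_rev, map_mul, map_mul]
      exact ⟨Subalgebra.mul_mem _ hx.1 hy.1, Subalgebra.mul_mem _ hy.2 hx.2⟩
    | inv x _ hx => exact ⟨hx.2, by rw [inv_inv]; exact hx.1⟩
  intro w
  induction w using MonoidAlgebra.induction_linear with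
  | zero => exact ⟨0, map_zero _⟩
  | add a b ha hb =>
    obtain ⟨a', rfl⟩ := ha
    obtain ⟨b', rfl⟩ := hb
    exact ⟨a' + b', map_add _ _ _⟩
  | single m b =>
    obtain ⟨x, hx⟩ := (hm m).1
    refine ⟨((1 : A₀) ⊗ₜ b) * x, ?_⟩
    rw [map_mul, cmpHom_tmul, map_one, one_mul]
    refine (congrArg (single 1 b * ·) hx).trans ?_
    simp

/-- Points of a split algebra are characters. -/
theorem existsUnique_char (θ₁ : A₀ →ₐ[R] MonoidAlgebra B₁ G) (h : Function.Bijective (cmpHom θ₁)) {D : Type u}
    [CommRing D] [Algebra R D] (β : A₀ →ₐ[R] D) (g : B₁ →ₐ[R] D) :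
    ∃! χ : G →* D, ∀ a, FixedSmooth.L g.toRingHom χ (θ₁ a) = β a := by
  let e := AlgEquiv.ofBijective (cmpHom θ₁) h
  let β' : MonoidAlgebra B₁ G →ₐ[R] D :=
    (Algebra.TensorProduct.lift β g fun _ _ => Commute.all _ _).comp e.symm.toAlgHom
  have hβ' : ∀ a b, β' (θ₁ a * single 1 b) = β a * g b := fun a b => by
    rw [← cmpHom_tmul]
    show Algebra.TensorProduct.lift β g (fun _ _ => Commute.all _ _) (e.symm (e (a ⊗ₜ b))) = _
    rw [AlgEquiv.symm_apply_apply, Algebra.TensorProduct.lift_tmul]
  let χ : G →* D := β'.toRingHom.toMonoidHom.comp (of B₁ G)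
  have hL : FixedSmooth.L g.toRingHom χ = β'.toRingHom := MonoidAlgebra.ringHom_ext
    (fun b => by
      rw [FixedSmooth.L_single, map_one, mul_one]
      show g b = β' (single 1 b)
      simpa using (hβ' 1 b).symm)
    (fun m => by rw [FixedSmooth.L_single, map_one, one_mul]; rfl)
  refine ⟨χ, fun a => ?_, fun χ' hχ' => ?_⟩
  · rw [hL]
    show β' (θ₁ a) = β a
    simpa [← MonoidAlgebra.one_def] using hβ' a 1
  · have hL' : ∀ w, FixedSmooth.L g.toRingHom χ' w = β' w := fun w => by
      obtain ⟨x, rfl⟩ := h.2 w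
      induction x using TensorProduct.induction_on with
      | zero => simp
      | add x y hx hy => rw [map_add, map_add, map_add, hx, hy]
      | tmul a b =>
        rw [cmpHom_tmul, map_mul, hχ', hβ', FixedSmooth.L_single, map_one, mul_one]
        rfl
    refine MonoidHom.ext fun m => ?_
    have := hL' (single m 1)
    rw [FixedSmooth.L_single, map_one, one_mul] at this
    exact this

end Groth.Agent.MultKer
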