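import Groth.Agent.SplitHom.Chart
import Groth.Agent.ASp.Fpqc
import Groth.Agent.MultKer.DescendAlg
import Groth.Agent.FixedSmooth.Props
import Groth.Agent.MonoFibre.MultType
import Mathlib.RingTheory.Flat.Basic
/-!
A splitting over an algebra over a noetherian ring descends to a finitely generated subalgebra.
-/

set_option autoImplicit false
set_option backward.isDefEq.respectTransparency false
set_option backward.isDefEq.respectTransparency.types false
set_option linter.style.haveILetI false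

universe u

open CategoryTheory CategoryTheory.Limits MonoidalCategory CartesianMonoidalCategory MonObj AlgebraicGeometry

noncomputable section

namespace Groth.Agent.MultKer

open FixedSmooth HomTriv TensorProduct

variable {S : Scheme.{u}} {H : Over S} [GrpObj H]

theorem flat_hom_of_isMultTypeFT (hH : SGA3x.IsMultTypeFT H) : Flat H.hom := by
  haveI := ASp.flat_descends.{u}
  obtain ⟨S', c, hc, -, hqc, hloc⟩ := hH
  haveI := hc
  refine prop_hom_of_charts @Flat H c hqc fun s' => ?_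
  obtain ⟨U, hU, M, _, -, ⟨e⟩⟩ := hloc s'
  refine ⟨U, hU, hom_of_grpIso (A := Red.bc (U.ι ≫ c) H) e @Flat ?_⟩
  haveI : Flat (Red.diag (ULift.{u} ℤ) M).hom := by
    show Flat (Spec.map (CommRingCat.ofHom
      (algebraMap (ULift.{u} ℤ) (MonoidAlgebra (ULift.{u} ℤ) (Multiplicative M)))))
    rw [HasRingHomProperty.Spec_iff (P := @Flat)]
    exact RingHom.flat_algebraMap_iff.2 inferInstance
  exact MorphismProperty.pullback_snd (P := @Flat) _ _ inferInstance

variable {R : CommRingCat.{u}} {r : Spec R ⟶ S} {A₀ : CommRingCat.{u}} {α : R ⟶ A₀} {z : Spec A₀ ⟶ H.left}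

section Points

variable (hP : IsPullback z (Spec.map α) H.hom r)

/-- The point with a given algebra map. -/
def pl {D : CommRingCat.{u}} (c : R ⟶ D) (β : A₀ ⟶ D) (h : α ≫ β = c) : Over.mk (Spec.map c ≫ r) ⟶ H :=
  Over.homMk (Spec.map β ≫ z) (by
    show (Spec.map β ≫ z) ≫ H.hom = Spec.map c ≫ r
    rw [Category.assoc, hP.w, ← h, Spec.map_comp, Category.assoc])

theorem pl_surjective {D : CommRingCat.{u}} (c : R ⟶ D) (x : Over.mk (Spec.map c ≫ r) ⟶ H) :
    ∃ (β : A₀ ⟶ D) (h : α ≫ β = c), pl hP c β h = x := by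
  obtain ⟨β, hβ⟩ := Spec.map_surjective (hP.lift x.left (Spec.map c) (Over.w x))
  refine ⟨β, Spec.map_injective (by rw [Spec.map_comp, hβ, hP.lift_snd]), ?_⟩
  apply Over.OverMorphism.ext
  show Spec.map β ≫ z = x.left
  rw [hβ, hP.lift_fst]

theorem pl_injective {D : CommRingCat.{u}} (c : R ⟶ D) {β β' : A₀ ⟶ D} {h : α ≫ β = c} {h' : α ≫ β' = c}
    (e : pl hP c β h = pl hP c β' h') : β = β' := by
  refine Spec.map_injective (hP.hom_ext ?_ ?_)
  · exact congrArg CommaMorphism.left e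
  · rw [← Spec.map_comp, ← Spec.map_comp, h, h']

/-- The change of rings of a point. -/
def plMap {D D' : CommRingCat.{u}} (c : R ⟶ D) (n : D ⟶ D') :
    Over.mk (Spec.map (c ≫ n) ≫ r) ⟶ Over.mk (Spec.map c ≫ r) :=
  Over.homMk (Spec.map n) (by
    show Spec.map n ≫ Spec.map c ≫ r = Spec.map (c ≫ n) ≫ r
    rw [Spec.map_comp, Category.assoc])

theorem plMap_pl {D D' : CommRingCat.{u}} (c : R ⟶ D) (n : D ⟶ D') (β : A₀ ⟶ D) (h : α ≫ β = c) :
    plMap (r := r) c n ≫ pl hP c β h = pl hP (c ≫ n) (β ≫ n) (by rw [← Category.assoc, h]) := by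
  apply Over.OverMorphism.ext
  show Spec.map n ≫ Spec.map β ≫ z = Spec.map (β ≫ n) ≫ z
  rw [Spec.map_comp, Category.assoc]

end Points

variable {M : Type} [AddCommGroup M]

/-- A splitting from a compatible comparison over a subalgebra. -/
theorem exists_split_of_cmp (hP : IsPullback z (Spec.map α) H.hom r) {B B₁ : CommRingCat.{u}} (φ : R ⟶ B)
    (σ : Split H (Spec.map φ ≫ r) M) (α₁ : R ⟶ B₁) (j : B₁ ⟶ B) (hj : α₁ ≫ j = φ) (hinj : Function.Injective j.hom)
    (θ₁ : A₀ ⟶ GA B₁ M) (hθ₁α : α ≫ θ₁ = α₁ ≫ gc B₁ M)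
    (hθz : Spec.map (θ₁ ≫ gmap j M) ≫ z = (univ σ).left)
    (hex : ∀ {D : CommRingCat.{u}} (g : B₁ ⟶ D) (β : A₀ ⟶ D), α ≫ β = α₁ ≫ g →
      ∃! χ : Multiplicative M →* D, θ₁ ≫ gev g χ = β) :
    Nonempty (Split H (Spec.map α₁ ≫ r) M) := by
  let n := gmap j M
  -- points
  let mkP : ∀ {D : CommRingCat.{u}} (g : B₁ ⟶ D) (χ : Multiplicative M →* D),
      Over.mk (Spec.map (α₁ ≫ g) ≫ r) ⟶ H := fun {D} g χ => pl hP (α₁ ≫ g) (θ₁ ≫ gev g χ) (by
    rw [← Category.assoc, hθ₁α, Category.assoc]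
    congr 1
    exact CommRingCat.hom_ext (L_comp_single g.hom χ))
  have hbij : ∀ {D : CommRingCat.{u}} (g : B₁ ⟶ D), Function.Bijective (mkP g) := fun {D} g => by
    refine ⟨fun χ χ' h => ?_, fun x => ?_⟩
    · exact (hex g (θ₁ ≫ gev g χ) (by
        rw [← Category.assoc, hθ₁α, Category.assoc]
        congr 1
        exact CommRingCat.hom_ext (L_comp_single g.hom χ))).unique rfl (pl_injective hP _ h).symm
    · obtain ⟨β, hβ, rfl⟩ := pl_surjective hP _ x
      obtain ⟨χ, hχ⟩ := (hex g β hβ).exists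
      refine ⟨χ, ?_⟩
      apply Over.OverMorphism.ext
      show Spec.map _ ≫ z = Spec.map β ≫ z
      rw [hχ]
  have hnat : ∀ {D D' : CommRingCat.{u}} (g : B₁ ⟶ D) (k : D ⟶ D') (χ : Multiplicative M →* D),
      plMap (r := r) (α₁ ≫ g) k ≫ mkP g χ = Over.homMk (Spec.map (θ₁ ≫ gev (g ≫ k) (k.hom.toMonoidHom.comp χ)) ≫ z)
        (by
          show (_ ≫ z) ≫ H.hom = Spec.map ((α₁ ≫ g) ≫ k) ≫ r
          rw [Category.assoc, hP.w, ← Category.assoc, ← Spec.map_comp, ← Category.assoc, hθ₁α, Category.assoc,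
            Category.assoc]
          congr 3
          exact CommRingCat.hom_ext (L_comp_single _ _)) := fun {D D'} g k χ => by
    rw [plMap_pl]
    apply Over.OverMorphism.ext
    show Spec.map ((θ₁ ≫ gev g χ) ≫ k) ≫ z = Spec.map (θ₁ ≫ gev (g ≫ k) _) ≫ z
    congr 2
    rw [Category.assoc]
    congr 1
    exact CommRingCat.hom_ext (comp_L _ _ _)
  have hmul : ∀ {D : CommRingCat.{u}} (g : B₁ ⟶ D) (χ χ' : Multiplicative M →* D),
      mkP g (χ * χ') = mkP g χ * mkP g χ' := by
    let D₀ : CommRingCat.{u} := CommRingCat.of (MonoidAlgebra B₁ (Multiplicative M × Multiplicative M))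
    let D' : CommRingCat.{u} := CommRingCat.of (MonoidAlgebra B (Multiplicative M × Multiplicative M))
    let g₀ : B₁ ⟶ D₀ := CommRingCat.ofHom MonoidAlgebra.singleOneRingHom
    let g' : B ⟶ D' := CommRingCat.ofHom MonoidAlgebra.singleOneRingHom
    let u₁ : Multiplicative M →* D₀ := (MonoidAlgebra.of B₁ _).comp (MonoidHom.inl _ _)
    let u₂ : Multiplicative M →* D₀ := (MonoidAlgebra.of B₁ _).comp (MonoidHom.inr _ _)
    let k : D₀ ⟶ D' := CommRingCat.ofHom (MonoidAlgebra.mapRingHom _ j.hom)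
    have hk : Function.Injective k.hom := fun a b h => by
      ext m
      refine hinj ?_
      have h' : MonoidAlgebra.mapRingHom (Multiplicative M × Multiplicative M) j.hom
          (a : MonoidAlgebra B₁ _) = MonoidAlgebra.mapRingHom _ j.hom b := h
      have h'' := congrArg (fun w => MonoidAlgebra.coeff w m) h'
      simp only [MonoidAlgebra.mapRingHom_apply] at h''
      exact h''
    have hgk : g₀ ≫ k = j ≫ g' := CommRingCat.hom_ext (RingHom.ext fun x => MonoidAlgebra.mapRingHom_single _ _ _)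
    let i : Over.mk (Spec.map ((α₁ ≫ g₀) ≫ k) ≫ r) ⟶ Over.mk (Spec.map g' ≫ Spec.map φ ≫ r) :=
      Over.homMk (𝟙 _) (by
        show 𝟙 _ ≫ Spec.map g' ≫ Spec.map φ ≫ r = _
        rw [Category.id_comp]
        show _ = Spec.map ((α₁ ≫ g₀) ≫ k) ≫ r
        rw [Category.assoc α₁, hgk, ← Category.assoc α₁, hj, Spec.map_comp, Category.assoc])
    have hσ : ∀ χ : Multiplicative M →* D₀,
        plMap (r := r) (α₁ ≫ g₀) k ≫ mkP g₀ χ = i ≫ σ.pt D' (Spec.map g') (k.hom.toMonoidHom.comp χ) := fun χ => by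
      rw [hnat]
      apply Over.OverMorphism.ext
      show Spec.map (θ₁ ≫ _) ≫ z = 𝟙 _ ≫ _
      rw [Category.id_comp]
      refine Eq.trans ?_ (pt_left σ g' _).symm
      rw [← hθz, ← Category.assoc, ← Spec.map_comp]
      congr 2
      skip
      show θ₁ ≫ gev (g₀ ≫ k) (k.hom.toMonoidHom.comp χ) = θ₁ ≫ (gmap j M ≫ gev g' (k.hom.toMonoidHom.comp χ))
      refine congrArg (θ₁ ≫ ·) ?_
      refine CommRingCat.hom_ext ?_
      refine MonoidAlgebra.ringHom_ext (fun b => ?_) fun m => ?_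
      · simpa [g'] using congrArg (fun f => f.hom b) hgk
      · simp
    obtain ⟨β, hβ, hβe⟩ := pl_surjective hP _ (mkP g₀ u₁ * mkP g₀ u₂)
    have hu : mkP g₀ (u₁ * u₂) = mkP g₀ u₁ * mkP g₀ u₂ := by
      rw [← hβe]
      have h1 : plMap (r := r) (α₁ ≫ g₀) k ≫ mkP g₀ (u₁ * u₂) = plMap (r := r) (α₁ ≫ g₀) k ≫ pl hP _ β hβ := by
        rw [hβe, MonObj.comp_mul, hσ, hσ, hσ, ← MonObj.comp_mul, ← map_mul]
        congr 2
        exact MonoidHom.ext fun m => map_mul k.hom _ _
      rw [plMap_pl, plMap_pl] at h1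
      have h2 := pl_injective hP _ h1
      show pl hP _ _ _ = pl hP _ _ _
      have : θ₁ ≫ gev g₀ (u₁ * u₂) = β := CommRingCat.hom_ext (RingHom.ext fun a =>
        hk (congrArg (fun f => f.hom a) h2))
      simp only [this]
    intro D g χ χ'
    let k' : D₀ ⟶ D := CommRingCat.ofHom (L g.hom (MonoidHom.coprod χ χ'))
    have e₀ : g₀ ≫ k' = g := CommRingCat.hom_ext (L_comp_single _ _)
    have e : (α₁ ≫ g₀) ≫ k' = α₁ ≫ g := by rw [Category.assoc, e₀]
    let i' : Over.mk (Spec.map (α₁ ≫ g) ≫ r) ⟶ Over.mk (Spec.map ((α₁ ≫ g₀) ≫ k') ≫ r) :=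
      Over.homMk (𝟙 _) (by simp [e])
    have h3 : ∀ (v : Multiplicative M →* D₀) (w : Multiplicative M →* D), k'.hom.toMonoidHom.comp v = w →
        mkP g w = i' ≫ plMap (r := r) (α₁ ≫ g₀) k' ≫ mkP g₀ v := fun v w hw => by
      rw [hnat, hw]
      apply Over.OverMorphism.ext
      show _ = 𝟙 _ ≫ Spec.map (θ₁ ≫ gev (g₀ ≫ k') w) ≫ z
      rw [Category.id_comp, e₀]
      rfl
    have hv : ∀ v : Multiplicative M × Multiplicative M,
        k'.hom (MonoidAlgebra.of B₁ _ v) = MonoidHom.coprod χ χ' v := fun v => by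
      show L g.hom (MonoidHom.coprod χ χ') (MonoidAlgebra.single v 1) = _
      rw [L_single, map_one, _root_.one_mul]
    rw [h3 (u₁ * u₂) (χ * χ') (MonoidHom.ext fun m => by
        show k'.hom (u₁ m * u₂ m) = χ m * χ' m
        rw [map_mul]
        exact (congrArg₂ (· * ·) (hv (m, 1)) (hv (1, m))).trans (by simp)),
      h3 u₁ χ (MonoidHom.ext fun m => by show k'.hom (u₁ m) = χ m; exact (hv (m, 1)).trans (by simp)),
      h3 u₂ χ' (MonoidHom.ext fun m => by show k'.hom (u₂ m) = χ' m; exact (hv (1, m)).trans (by simp)),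
      hu, MonObj.comp_mul, MonObj.comp_mul]
  let iso : ∀ (D : CommRingCat.{u}) (q : Spec D ⟶ Spec B₁),
      Over.mk (q ≫ Spec.map α₁ ≫ r) ≅ Over.mk (Spec.map (α₁ ≫ Spec.preimage q) ≫ r) := fun D q =>
    Over.isoMk (Iso.refl _) (by simp [Spec.map_comp])
  let e₁ : ∀ (D : CommRingCat.{u}) (q : Spec D ⟶ Spec B₁),
      (Multiplicative M →* D) ≃* (Over.mk (q ≫ Spec.map α₁ ≫ r) ⟶ H) := fun D q =>
    (MulEquiv.ofBijective (MonoidHom.mk' (mkP (Spec.preimage q)) (hmul _)) (hbij _)).trans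
      (precompEquiv (G := H) (iso D q))
  refine ⟨⟨e₁, fun D D' q k χ => ?_⟩⟩
  apply Over.OverMorphism.ext
  show Spec.map k ≫ 𝟙 _ ≫ Spec.map (θ₁ ≫ gev (Spec.preimage q) χ) ≫ z =
    𝟙 _ ≫ Spec.map (θ₁ ≫ gev (Spec.preimage (Spec.map k ≫ q)) (k.hom.toMonoidHom.comp χ)) ≫ z
  rw [Category.id_comp, Category.id_comp, ← Category.assoc, ← Spec.map_comp,
    show Spec.preimage (Spec.map k ≫ q) = Spec.preimage q ≫ k from Spec.map_injective (by simp), Category.assoc]
  congr 3
  exact CommRingCat.hom_ext (comp_L _ _ _)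


/-- A splitting descends to a subalgebra containing enough elements. -/
theorem exists_split_descend [IsNoetherianRing R] [IsAffineHom H.hom] [LocallyOfFiniteType H.hom] [Flat H.hom]
    [AddGroup.FG M] (r : Spec R ⟶ S) {B : CommRingCat.{u}} (φ : R ⟶ B) (σ : Split H (Spec.map φ ≫ r) M) :
    ∃ s : Finset B, ∀ {B₁ : CommRingCat.{u}} (α₁ : R ⟶ B₁) (j : B₁ ⟶ B), α₁ ≫ j = φ →
      Function.Injective j.hom → (∀ b ∈ s, b ∈ Set.range j.hom) →
      Nonempty (Split H (Spec.map α₁ ≫ r) M) := by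
  classical
  let P₀ := pullback H.hom r
  haveI : IsAffine P₀ := isAffine_of_isAffineHom (pullback.snd H.hom r)
  let A₀ : CommRingCat.{u} := Γ(P₀, ⊤)
  let α : R ⟶ A₀ := Spec.preimage (P₀.isoSpec.inv ≫ pullback.snd H.hom r)
  have hα : Spec.map α = P₀.isoSpec.inv ≫ pullback.snd H.hom r := Spec.map_preimage _
  let z : Spec A₀ ⟶ H.left := P₀.isoSpec.inv ≫ pullback.fst H.hom r
  have hP : IsPullback z (Spec.map α) H.hom r := IsPullback.of_iso_pullback
    ⟨by rw [hα, Category.assoc, Category.assoc, pullback.condition]⟩ P₀.isoSpec.symm rfl hα.symm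
  letI : Algebra R A₀ := α.hom.toAlgebra
  haveI hft : Algebra.FiniteType R A₀ := by
    haveI : LocallyOfFiniteType (Spec.map α) := by rw [hα]; infer_instance
    exact (HasRingHomProperty.Spec_iff (P := @LocallyOfFiniteType)).1 this
  haveI hflat : Module.Flat R A₀ := by
    haveI : Flat (Spec.map α) := by rw [hα]; infer_instance
    exact (HasRingHomProperty.Spec_iff (P := @Flat)).1 this
  -- the universal point over `B`
  obtain ⟨θ, hθ⟩ := Spec.map_surjective (hP.lift (univ σ).left (Spec.map (φ ≫ gc B M)) (by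
    rw [Spec.map_comp, Category.assoc]; exact Over.w (univ σ)))
  have hθz : Spec.map θ ≫ z = (univ σ).left := by rw [hθ, hP.lift_fst]
  have hθα : α ≫ θ = φ ≫ gc B M := Spec.map_injective (by rw [Spec.map_comp, hθ, hP.lift_snd])
  letI : Algebra R B := φ.hom.toAlgebra
  let θA : A₀ →ₐ[R] MonoidAlgebra B (Multiplicative M) :=
    { θ.hom with commutes' := fun x => congrArg (fun f => f.hom x) hθα }
  let Φ := cmpHom θA
  have hΦ : Function.Bijective Φ := by
    have hsq : IsPullback (Spec.map θ) (Spec.map (gc B M)) (Spec.map α) (Spec.map φ) := by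
      refine IsPullback.of_right ?_ ?_ hP
      · rw [hθz]; exact SplitHom.isPullback_univ σ
      · rw [← Spec.map_comp, ← Spec.map_comp, hθα]
    let e := hsq.isoPullback ≪≫ pullbackSpecIso R A₀ B
    have he : e.hom = Spec.map (CommRingCat.ofHom Φ.toRingHom) := by
      rw [← cancel_mono (pullbackSpecIso R A₀ B).inv]
      apply pullback.hom_ext
      · rw [Category.assoc, Category.assoc, pullbackSpecIso_inv_fst, ← Spec.map_comp]
        simp only [e, Iso.trans_hom, Category.assoc]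
        erw [pullbackSpecIso_hom_fst, hsq.isoPullback_hom_fst]
        congr 1
        exact CommRingCat.hom_ext (RingHom.ext fun x => by
          show θ.hom x = Φ (x ⊗ₜ 1)
          rw [cmpHom_tmul, ← MonoidAlgebra.one_def, _root_.mul_one]
          rfl)
      · rw [Category.assoc, Category.assoc, pullbackSpecIso_inv_snd, ← Spec.map_comp]
        simp only [e, Iso.trans_hom, Category.assoc]
        erw [pullbackSpecIso_hom_snd, hsq.isoPullback_hom_snd]
        congr 1
        exact CommRingCat.hom_ext (RingHom.ext fun x => by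
          show (gc B M).hom x = Φ (1 ⊗ₜ x)
          rw [cmpHom_tmul, map_one, _root_.one_mul]
          rfl)
    haveI : IsIso (Spec.map (CommRingCat.ofHom Φ.toRingHom)) := by rw [← he]; infer_instance
    obtain ⟨g, hg⟩ := Spec.map_surjective (inv (Spec.map (CommRingCat.ofHom Φ.toRingHom)))
    haveI : IsIso (CommRingCat.ofHom Φ.toRingHom) := ⟨g, Spec.map_injective (by
      rw [Spec.map_comp, hg, IsIso.inv_hom_id, Spec.map_id]), Spec.map_injective (by
      rw [Spec.map_comp, hg, IsIso.hom_inv_id, Spec.map_id])⟩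
    exact (ConcreteCategory.isIso_iff_bijective _).1 this
  obtain ⟨s, hs⟩ := exists_descend_alg θA hΦ
  refine ⟨s, fun {B₁} α₁ j hj hinj hrange => ?_⟩
  letI : Algebra R B₁ := α₁.hom.toAlgebra
  let jA : B₁ →ₐ[R] B := { j.hom with commutes' := fun x => congrArg (fun f => f.hom x) hj }
  obtain ⟨θ₁, hθ₁, hb⟩ := hs jA hinj hrange
  let θ₁' : A₀ ⟶ GA B₁ M := CommRingCat.ofHom θ₁.toRingHom
  refine exists_split_of_cmp hP φ σ α₁ j hj hinj θ₁'
    (CommRingCat.hom_ext (RingHom.ext fun x => θ₁.commutes x)) ?_ fun {D} g β hβ => ?_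
  · rw [← hθz]
    congr 2
    exact CommRingCat.hom_ext (RingHom.ext hθ₁)
  · letI : Algebra R D := (α₁ ≫ g).hom.toAlgebra
    have h := existsUnique_char θ₁ hb
      ({ β.hom with commutes' := fun x => congrArg (fun f => f.hom x) hβ } : A₀ →ₐ[R] D)
      ({ g.hom with commutes' := fun _ => rfl } : B₁ →ₐ[R] D)
    obtain ⟨χ, hχ, huniq⟩ := h
    exact ⟨χ, CommRingCat.hom_ext (RingHom.ext hχ), fun χ' hχ' => huniq χ' fun a =>
      congrArg (fun f => f.hom a) hχ'⟩

end Groth.Agent.MultKer
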