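import Groth.Agent.MultKer.Main
import Groth.Agent.MultKer.Descend
import Groth.Agent.SplitHom.Props
import Groth.Agent.TrivAct.SplitExt
/-!
The locus where one central subgroup of multiplicative type lies in another.
-/

set_option autoImplicit false
set_option backward.isDefEq.respectTransparency false
set_option backward.isDefEq.respectTransparency.types false
set_option linter.style.haveILetI false

universe u

open CategoryTheory CategoryTheory.Limits MonoidalCategory CartesianMonoidalCategory MonObj AlgebraicGeometry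

noncomputable section

namespace Groth.Agent.MultKer

open FixedSmooth HomTriv

variable {S : Scheme.{u}} {H₁ H₂ G : Over S} [GrpObj H₁] [GrpObj H₂] [GrpObj G]

theorem points_comm {H : Over S} [GrpObj H] (hH : TrivAct.HasSplitCovers H) {X : Over S} (a b : X ⟶ H) :
    a * b = b * a := by
  refine TrivAct.ext_of_split hH fun B q M _ σ w => ?_
  let i : Over.mk (𝟙 (Spec B) ≫ q) ≅ Over.mk q := Over.isoMk (Iso.refl _) (by simp)
  obtain ⟨χ, hχ⟩ := (σ.pt B (𝟙 _)).surjective (i.hom ≫ w ≫ a)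
  obtain ⟨χ', hχ'⟩ := (σ.pt B (𝟙 _)).surjective (i.hom ≫ w ≫ b)
  rw [← cancel_epi i.hom, MonObj.comp_mul, MonObj.comp_mul, MonObj.comp_mul, MonObj.comp_mul, ← hχ, ← hχ', ← map_mul,
    ← map_mul, _root_.mul_comm]

variable {B : CommRingCat.{u}} {t : Spec B ⟶ S} {M₁ M₂ : Type} [AddCommGroup M₁] [AddCommGroup M₂]

/-- The inclusion of characters. -/
abbrev inlM (M₁ M₂ : Type) [AddCommGroup M₁] [AddCommGroup M₂] : Multiplicative M₁ →* Multiplicative (M₁ × M₂) :=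
  AddMonoidHom.toMultiplicative (AddMonoidHom.inl M₁ M₂)

/-- The inclusion of characters. -/
abbrev inrM (M₁ M₂ : Type) [AddCommGroup M₁] [AddCommGroup M₂] : Multiplicative M₂ →* Multiplicative (M₁ × M₂) :=
  AddMonoidHom.toMultiplicative (AddMonoidHom.inr M₁ M₂)

theorem exists_char_pair {D : Type u} [CommMonoid D] (a : Multiplicative M₁ →* D) (b : Multiplicative M₂ →* D) :
    ∃ χ : Multiplicative (M₁ × M₂) →* D, χ.comp (inlM M₁ M₂) = a ∧ χ.comp (inrM M₁ M₂) = b := by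
  refine ⟨{ toFun := fun m => a (Multiplicative.ofAdd (Multiplicative.toAdd m).1) * b (Multiplicative.ofAdd (Multiplicative.toAdd m).2)
            map_one' := by simp
            map_mul' := fun x y => by simp [_root_.mul_mul_mul_comm] }, ?_, ?_⟩
  · exact MonoidHom.ext fun m => by simp [inlM]
  · exact MonoidHom.ext fun m => by simp [inrM]

theorem char_pair_ext {D : Type u} [CommMonoid D] {χ χ' : Multiplicative (M₁ × M₂) →* D}
    (h₁ : χ.comp (inlM M₁ M₂) = χ'.comp (inlM M₁ M₂)) (h₂ : χ.comp (inrM M₁ M₂) = χ'.comp (inrM M₁ M₂)) : χ = χ' := by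
  refine MonoidHom.ext fun m => ?_
  have e : m = inlM M₁ M₂ (Multiplicative.ofAdd (Multiplicative.toAdd m).1) *
      inrM M₁ M₂ (Multiplicative.ofAdd (Multiplicative.toAdd m).2) := by
    apply Multiplicative.toAdd.injective
    simp [inlM, inrM]
  rw [e, map_mul, map_mul]
  exact congrArg₂ (· * ·) (DFunLike.congr_fun h₁ _) (DFunLike.congr_fun h₂ _)

/-- The product of two splittings. -/
theorem exists_prodSplit (σ₁ : Split H₁ t M₁) (σ₂ : Split H₂ t M₂) :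
    ∃ σ : Split (H₁ ⊗ H₂) t (M₁ × M₂), ∀ (D : CommRingCat.{u}) (q : Spec D ⟶ Spec B)
      (χ : Multiplicative (M₁ × M₂) →* D),
      σ.pt D q χ = lift (σ₁.pt D q (χ.comp (inlM M₁ M₂))) (σ₂.pt D q (χ.comp (inrM M₁ M₂))) := by
  let f : ∀ (D : CommRingCat.{u}) (q : Spec D ⟶ Spec B),
      (Multiplicative (M₁ × M₂) →* D) →* (Over.mk (q ≫ t) ⟶ H₁ ⊗ H₂) := fun D q => MonoidHom.mk'
    (fun χ => lift (σ₁.pt D q (χ.comp (inlM M₁ M₂))) (σ₂.pt D q (χ.comp (inrM M₁ M₂)))) fun χ χ' => by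
      apply CartesianMonoidalCategory.hom_ext
      · rw [MonObj.mul_comp, lift_fst, lift_fst, lift_fst, MonoidHom.mul_comp, map_mul]
      · rw [MonObj.mul_comp, lift_snd, lift_snd, lift_snd, MonoidHom.mul_comp, map_mul]
  have hf : ∀ D q, Function.Bijective (f D q) := fun D q => by
    refine ⟨fun χ χ' h => ?_, fun x => ?_⟩
    · refine char_pair_ext ((σ₁.pt D q).injective ?_) ((σ₂.pt D q).injective ?_)
      · simpa [f] using congrArg (· ≫ fst H₁ H₂) h
      · simpa [f] using congrArg (· ≫ snd H₁ H₂) h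
    · obtain ⟨a, ha⟩ := (σ₁.pt D q).surjective (x ≫ fst _ _)
      obtain ⟨b, hb⟩ := (σ₂.pt D q).surjective (x ≫ snd _ _)
      obtain ⟨χ, hχa, hχb⟩ := exists_char_pair a b
      refine ⟨χ, ?_⟩
      show lift _ _ = x
      rw [hχa, hχb, ha, hb]
      apply CartesianMonoidalCategory.hom_ext <;> simp
  refine ⟨⟨fun D q => MulEquiv.ofBijective (f D q) (hf D q), fun D D' q g χ => ?_⟩, fun D q χ => rfl⟩
  show _ ≫ lift (σ₁.pt D q _) (σ₂.pt D q _) = lift (σ₁.pt D' _ _) (σ₂.pt D' _ _)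
  exact (comp_lift _ _ _).trans (congrArg₂ lift (σ₁.nat D D' q g _) (σ₂.nat D D' q g _))

/-- The subgroup `H₁` lies in `H₂` over `t`. -/
def Le (i₁ : H₁ ⟶ G) (i₂ : H₂ ⟶ G) {T : Scheme.{u}} (t : T ⟶ S) : Prop :=
  ∀ (Y : Over S) (_ : Y ⟶ Over.mk t) (h : Y ⟶ H₁), ∃ h₂ : Y ⟶ H₂, h₂ ≫ i₂ = h ≫ i₁

theorem le_iff_isIso (i₁ : H₁ ⟶ G) (i₂ : H₂ ⟶ G) [Mono i₂] {T : Scheme.{u}} (t : T ⟶ S) :
    Le i₁ i₂ t ↔ IsIso ((Over.pullback t).map (pullback.fst i₁ i₂)).left := by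
  let p : pullback i₁ i₂ ⟶ H₁ := pullback.fst i₁ i₂
  let q := (Over.pullback t).map p
  haveI : Mono p := inferInstanceAs (Mono (pullback.fst i₁ i₂))
  haveI : Mono q := Functor.map_mono _ _
  let hE := fun (Y : Over T) (A : Over S) => (Over.mapPullbackAdj t).homEquiv Y A
  constructor
  · intro h
    let Y : Over T := Red.bc t H₁
    let x : (Over.map t).obj Y ⟶ H₁ := (hE Y H₁).symm (𝟙 Y)
    obtain ⟨h₂, hh₂⟩ := h _ (Over.homMk Y.hom rfl) x
    let y : (Over.map t).obj Y ⟶ pullback i₁ i₂ := pullback.lift x h₂ hh₂.symm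
    have e : hE Y _ y ≫ q = 𝟙 Y := by
      show (Over.mapPullbackAdj t).homEquiv Y _ y ≫ (Over.pullback t).map p = _
      rw [← Adjunction.homEquiv_naturality_right, show y ≫ p = x from pullback.lift_fst _ _ _]
      exact Equiv.apply_symm_apply _ _
    haveI : IsSplitEpi q := IsSplitEpi.mk' ⟨_, e⟩
    haveI : IsIso q := isIso_of_mono_of_isSplitEpi q
    exact inferInstanceAs (IsIso ((Over.forget T).map q))
  · intro h
    haveI : IsIso ((Over.forget T).map q) := h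
    haveI : IsIso q := isIso_of_reflects_iso q (Over.forget T)
    intro Y p₀ a
    let Y' : Over T := Over.mk p₀.left
    let e : (Over.map t).obj Y' ≅ Y := Over.isoMk (Iso.refl _) (by
      show 𝟙 _ ≫ Y.hom = p₀.left ≫ t
      rw [Category.id_comp]
      exact (Over.w p₀).symm)
    let y : (Over.map t).obj Y' ⟶ pullback i₁ i₂ := (hE Y' _).symm (hE Y' _ (e.hom ≫ a) ≫ inv q)
    have hy : y ≫ p = e.hom ≫ a := by
      apply (hE Y' H₁).injective
      show (Over.mapPullbackAdj t).homEquiv Y' _ (y ≫ p) = _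
      rw [Adjunction.homEquiv_naturality_right]
      show hE Y' _ y ≫ q = _
      simp [y]
    refine ⟨e.inv ≫ y ≫ pullback.snd i₁ i₂, ?_⟩
    rw [Category.assoc, Category.assoc, ← pullback.condition, ← Category.assoc y]
    show e.inv ≫ (y ≫ p) ≫ i₁ = a ≫ i₁
    rw [hy, Category.assoc, Iso.inv_hom_id_assoc]

/-- Near a point of a chart the containment holds everywhere or nowhere. -/
theorem exists_le_local [IsSeparated G.hom] [IsAffineHom H₁.hom] [AddGroup.FG M₁] [AddGroup.FG M₂]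
    (σ₁ : Split H₁ t M₁) (σ₂ : Split H₂ t M₂) (i₁ : H₁ ⟶ G) [IsMonHom i₁] (i₂ : H₂ ⟶ G) [IsMonHom i₂] [Mono i₂]
    (hc : ∀ (X : Over S) (a : X ⟶ H₁) (b : X ⟶ H₂), (a ≫ i₁) * (b ≫ i₂) = (b ≫ i₂) * (a ≫ i₁))
    (hcomm : ∀ (X : Over S) (a b : X ⟶ H₂), a * b = b * a)
    (hG : IsLocallyNoetherian (Spec B) ∨ LocallyOfFiniteType G.hom) (P : PrimeSpectrum B) :
    ∃ (f : B) (Q : Prop), f ∉ P.asIdeal ∧ ∀ {D : CommRingCat.{u}} [Nontrivial D] (g : B ⟶ D), IsUnit (g.hom f) →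
      (Le i₁ i₂ (Spec.map g ≫ t) ↔ Q) := by
  obtain ⟨v, hv⟩ : ∃ v : H₁ ⊗ H₂ ⟶ G,
      ∀ (Y : Over S) (x : Y ⟶ H₁) (y : Y ⟶ H₂), lift x y ≫ v = (x ≫ i₁) * (y ≫ i₂)⁻¹ :=
    ⟨(fst H₁ H₂ ≫ i₁) * (snd H₁ H₂ ≫ i₂)⁻¹, fun Y x y => by simp [MonObj.comp_mul, GrpObj.comp_inv]⟩
  have hvmul : ∀ (Y : Over S) (a b : Y ⟶ H₁ ⊗ H₂), (a * b) ≫ v = (a ≫ v) * (b ≫ v) := fun Y a b => by
    have ha : a = lift (a ≫ fst _ _) (a ≫ snd _ _) := by apply CartesianMonoidalCategory.hom_ext <;> simp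
    have hb : b = lift (b ≫ fst _ _) (b ≫ snd _ _) := by apply CartesianMonoidalCategory.hom_ext <;> simp
    have hab : a * b = lift ((a ≫ fst _ _) * (b ≫ fst _ _)) ((a ≫ snd _ _) * (b ≫ snd _ _)) := by
      apply CartesianMonoidalCategory.hom_ext
      · rw [MonObj.mul_comp, lift_fst]
      · rw [MonObj.mul_comp, lift_snd]
    rw [hab, ha, hb, hv, hv, hv]
    simp only [lift_fst, lift_snd, MonObj.mul_comp]
    have c₂' : ((b ≫ snd H₁ H₂) ≫ i₂) * ((a ≫ snd H₁ H₂) ≫ i₂) =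
        ((a ≫ snd H₁ H₂) ≫ i₂) * ((b ≫ snd H₁ H₂) ≫ i₂) := by
      exact ((MonObj.mul_comp _ _ i₂).symm.trans (congrArg (· ≫ i₂) (hcomm _ _ _))).trans (MonObj.mul_comp _ _ _)
    have c₂ : ((a ≫ snd H₁ H₂) ≫ i₂)⁻¹ * ((b ≫ snd H₁ H₂) ≫ i₂)⁻¹ =
        ((b ≫ snd H₁ H₂) ≫ i₂)⁻¹ * ((a ≫ snd H₁ H₂) ≫ i₂)⁻¹ := by
      rw [← mul_inv_rev, ← mul_inv_rev, c₂']
    have c₁ : ((a ≫ snd H₁ H₂) ≫ i₂)⁻¹ * ((b ≫ fst H₁ H₂) ≫ i₁) =
        ((b ≫ fst H₁ H₂) ≫ i₁) * ((a ≫ snd H₁ H₂) ≫ i₂)⁻¹ :=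
      (Commute.inv_right (hc Y (b ≫ fst H₁ H₂) (a ≫ snd H₁ H₂))).symm.eq
    rw [mul_inv_rev, ← c₂]
    simp only [_root_.mul_assoc]
    congr 1
    simp only [← _root_.mul_assoc]
    rw [c₁]
  haveI : IsMonHom v := by
    constructor
    · have h1 := hvmul _ (1 : 𝟙_ (Over S) ⟶ H₁ ⊗ H₂) 1
      rw [_root_.one_mul, left_eq_mul] at h1
      rw [MonObj.one_eq_one, MonObj.one_eq_one]
      exact h1
    · have h1 := hvmul _ (fst (H₁ ⊗ H₂) (H₁ ⊗ H₂)) (snd _ _)
      rw [MonObj.mul_eq_mul, MonObj.mul_eq_mul, MonObj.comp_mul, tensorHom_fst, tensorHom_snd]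
      exact h1
  obtain ⟨σ, hσ⟩ := exists_prodSplit σ₁ σ₂
  obtain ⟨f, N, hf, hN⟩ := exists_normal_form σ v hG P
  have hN' : ∀ {D : CommRingCat.{u}} (g : B ⟶ D) (χ : Multiplicative (M₁ × M₂) →* D), IsUnit (g.hom f) →
      (σ₁.pt D (Spec.map g) (χ.comp (inlM M₁ M₂)) ≫ i₁ = σ₂.pt D (Spec.map g) (χ.comp (inrM M₁ M₂)) ≫ i₂ ↔
        ∀ n ∈ N, χ n = 1) := fun g χ hg => by
    rw [← hN g χ hg, hσ, hv, mul_inv_eq_one]
  let j : Multiplicative M₁ →* Multiplicative (M₁ × M₂) ⧸ N := (QuotientGroup.mk' N).comp (inlM M₁ M₂)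
  refine ⟨f, Function.Bijective j, hf, fun {D} _ g hg => ⟨fun h => ?_, fun h => ?_⟩⟩
  · -- the universal point of `H₁`
    let D₁ : CommRingCat.{u} := GA D M₁
    let g₁ : B ⟶ D₁ := g ≫ gc D M₁
    have hg₁ : IsUnit (g₁.hom f) := hg.map (gc D M₁).hom
    let p : Over.mk (Spec.map g₁ ≫ t) ⟶ Over.mk (Spec.map g ≫ t) := Over.homMk (Spec.map (gc D M₁)) (by
      show Spec.map _ ≫ Spec.map g ≫ t = Spec.map g₁ ≫ t
      simp [g₁])
    obtain ⟨h₂, hh₂⟩ := h _ p (σ₁.pt D₁ (Spec.map g₁) (MonoidAlgebra.of D (Multiplicative M₁)))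
    obtain ⟨χ₂, hχ₂⟩ := (σ₂.pt D₁ (Spec.map g₁)).surjective h₂
    obtain ⟨χ, hχl, hχr⟩ := exists_char_pair (MonoidAlgebra.of D (Multiplicative M₁) : Multiplicative M₁ →* D₁) χ₂
    have hkill := (hN' g₁ χ hg₁).1 (by rw [hχl, hχr, hχ₂, hh₂])
    have hinj : Function.Injective j := by
      refine (injective_iff_map_eq_one j).2 fun m hm => ?_
      have h1 : χ (inlM M₁ M₂ m) = 1 := hkill _ ((QuotientGroup.eq_one_iff _).1 hm)
      rw [show χ (inlM M₁ M₂ m) = MonoidAlgebra.of D (Multiplicative M₁) m from DFunLike.congr_fun hχl m] at h1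
      exact MonoidAlgebra.of_injective (h1.trans (map_one _).symm)
    refine ⟨hinj, ?_⟩
    let D₂ : CommRingCat.{u} := CommRingCat.of (MonoidAlgebra D (Multiplicative (M₁ × M₂) ⧸ N))
    let a : D₁ ⟶ D₂ := CommRingCat.ofHom (MonoidAlgebra.mapDomainRingHom D j)
    let g₂ : B ⟶ D₂ := g₁ ≫ a
    have hg₂ : IsUnit (g₂.hom f) := hg₁.map a.hom
    let χ' : Multiplicative (M₁ × M₂) →* D₂ := (MonoidAlgebra.of D _).comp (QuotientGroup.mk' N)
    have h1 := (hN' g₂ (a.hom.toMonoidHom.comp χ) hg₂).2 fun n hn => by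
      show a.hom (χ n) = 1
      rw [hkill n hn, map_one]
    have h2 := (hN' g₂ χ' hg₂).2 fun n hn => by
      show MonoidAlgebra.of D _ (QuotientGroup.mk' N n) = 1
      rw [show QuotientGroup.mk' N n = 1 from (QuotientGroup.eq_one_iff n).2 hn, map_one]
    have hl : (a.hom.toMonoidHom.comp χ).comp (inlM M₁ M₂) = χ'.comp (inlM M₁ M₂) := MonoidHom.ext fun m => by
      show a.hom (χ (inlM M₁ M₂ m)) = MonoidAlgebra.of D _ (j m)
      rw [show χ (inlM M₁ M₂ m) = MonoidAlgebra.of D (Multiplicative M₁) m from DFunLike.congr_fun hχl m]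
      simp [a, MonoidAlgebra.mapDomainRingHom, MonoidAlgebra.mapDomain_single]
      exact MonoidAlgebra.mapDomain_single
    rw [hl, h2] at h1
    have h3 := (σ₂.pt D₂ (Spec.map g₂)).injective ((cancel_mono i₂).1 h1)
    intro q
    obtain ⟨m, rfl⟩ := QuotientGroup.mk'_surjective N q
    have e : m = inlM M₁ M₂ (Multiplicative.ofAdd (Multiplicative.toAdd m).1) *
        inrM M₁ M₂ (Multiplicative.ofAdd (Multiplicative.toAdd m).2) := by
      apply Multiplicative.toAdd.injective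
      simp [inlM, inrM]
    obtain ⟨m₁, hm₁⟩ : QuotientGroup.mk' N (inrM M₁ M₂ (Multiplicative.ofAdd (Multiplicative.toAdd m).2)) ∈
        Set.range j := by
      by_contra hne
      have h4 : MonoidAlgebra.single (QuotientGroup.mk' N (inrM M₁ M₂ (Multiplicative.ofAdd (Multiplicative.toAdd m).2))) (1 : D) =
          MonoidAlgebra.mapDomainRingHom D j (χ (inrM M₁ M₂ (Multiplicative.ofAdd (Multiplicative.toAdd m).2))) :=
        DFunLike.congr_fun h3 (Multiplicative.ofAdd (Multiplicative.toAdd m).2)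
      have hz : MonoidAlgebra.coeff (MonoidAlgebra.mapDomainRingHom D j
          (χ (inrM M₁ M₂ (Multiplicative.ofAdd (Multiplicative.toAdd m).2))))
          (QuotientGroup.mk' N (inrM M₁ M₂ (Multiplicative.ofAdd (Multiplicative.toAdd m).2))) = 0 :=
        Finsupp.mapDomain_notin_range _ _ hne
      rw [← h4] at hz
      simp at hz
    exact ⟨Multiplicative.ofAdd (Multiplicative.toAdd m).1 * m₁, by rw [map_mul, hm₁]; exact (map_mul (QuotientGroup.mk' N) _ _).symm.trans (by rw [← e])⟩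
  · -- lift the universal point
    let je := MulEquiv.ofBijective j h
    let g₁ : B ⟶ GA D M₁ := g ≫ gc D M₁
    let χ : Multiplicative (M₁ × M₂) →* GA D M₁ :=
      (MonoidAlgebra.of D (Multiplicative M₁)).comp (je.symm.toMonoidHom.comp (QuotientGroup.mk' N))
    have hker := (hN' g₁ χ (hg.map (gc D M₁).hom)).2 fun n hn => by
      show MonoidAlgebra.of D _ (je.symm (QuotientGroup.mk' N n)) = 1
      rw [show QuotientGroup.mk' N n = 1 from (QuotientGroup.eq_one_iff n).2 hn, map_one, map_one]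
    have hl : χ.comp (inlM M₁ M₂) = MonoidAlgebra.of D (Multiplicative M₁) := MonoidHom.ext fun m => by
      show MonoidAlgebra.of D _ (je.symm (je m)) = _
      rw [MulEquiv.symm_apply_apply]
    intro Y p x
    let sq := SplitHom.isPullback_univ (res σ₁ g)
    let k : Y.left ⟶ Spec (GA D M₁) := sq.lift x.left p.left ((Over.w x).trans (Over.w p).symm)
    let k' : Y ⟶ Over.mk (Spec.map g₁ ≫ t) := Over.homMk k (by
      show k ≫ Spec.map g₁ ≫ t = Y.hom
      rw [Spec.map_comp, Category.assoc, ← Category.assoc k, sq.lift_snd]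
      exact Over.w p)
    refine ⟨k' ≫ σ₂.pt (GA D M₁) (Spec.map g₁) (χ.comp (inrM M₁ M₂)), ?_⟩
    rw [Category.assoc, ← hker, ← Category.assoc]
    congr 1
    apply Over.OverMorphism.ext
    show k ≫ (σ₁.pt _ (Spec.map g₁) _).left = x.left
    rw [hl]
    refine Eq.trans (congrArg (k ≫ ·) ?_) (sq.lift_fst _ _ _)
    show _ = 𝟙 _ ≫ (σ₁.pt _ (Spec.map (gc D M₁) ≫ Spec.map g) _).left
    rw [Category.id_comp]
    exact pt_congr σ₁ (Spec.map_comp _ _) rfl

end Groth.Agent.MultKer
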