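import Groth.Agent.MultKer.Equal
import Groth.Agent.SplitHom.Locus
/-!
The containment locus of subgroups of multiplicative type, one of them central, is open and closed.
-/

set_option autoImplicit false
set_option backward.isDefEq.respectTransparency false
set_option backward.isDefEq.respectTransparency.types false
set_option linter.style.haveILetI false

universe u

open CategoryTheory CategoryTheory.Limits MonoidalCategory CartesianMonoidalCategory MonObj AlgebraicGeometry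

noncomputable section

namespace Groth.Agent.MultKer

open FixedSmooth HomTriv

local notation "isoP" => MorphismProperty.isomorphisms Scheme

variable {S : Scheme.{u}} {H₁ H₂ G : Over S} [GrpObj H₁] [GrpObj H₂] [GrpObj G]

theorem le_residue_iff (i₁ : H₁ ⟶ G) (i₂ : H₂ ⟶ G) [Mono i₂] {B : CommRingCat.{u}} (t : Spec B ⟶ S)
    (P : PrimeSpectrum B) :
    Le i₁ i₂ (S.fromSpecResidueField (t P)) ↔
      Le i₁ i₂ (Spec.map (CommRingCat.ofHom (algebraMap B P.asIdeal.ResidueField)) ≫ t) := by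
  obtain ⟨k, _, _, _, hk⟩ := CentralLoc.exists_residue_factor t P
  rw [le_iff_isIso, le_iff_isIso]
  exact ⟨SplitHom.of_base (P := isoP) (pullback.fst i₁ i₂) k hk, SplitHom.of_fpqc (P := isoP) (pullback.fst i₁ i₂) k hk⟩

/-- A chart can be replaced by one over a noetherian ring. -/
theorem exists_noeth_chart (h₁ : SGA3x.IsMultTypeFT H₁) (h₂ : SGA3x.IsMultTypeFT H₂) [IsLocallyNoetherian S]
    {V : S.Opens} (hV : IsAffineOpen V) {B : CommRingCat.{u}} (j : Spec B ⟶ V.toScheme) {M₁ M₂ : Type}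
    [AddCommGroup M₁] [AddCommGroup M₂] [AddGroup.FG M₁] [AddGroup.FG M₂]
    (σ₁ : Split H₁ (j ≫ V.ι) M₁) (σ₂ : Split H₂ (j ≫ V.ι) M₂) :
    ∃ (B₁ : CommRingCat.{u}) (a : B₁ ⟶ B) (t₁ : Spec B₁ ⟶ S), Spec.map a ≫ t₁ = j ≫ V.ι ∧
      IsLocallyNoetherian (Spec B₁) ∧ Nonempty (Split H₁ t₁ M₁) ∧ Nonempty (Split H₂ t₁ M₂) := by
  classical
  let R : CommRingCat.{u} := Γ(S, V)
  haveI : IsNoetherianRing R := IsLocallyNoetherian.component_noetherian ⟨V, hV⟩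
  let φ : R ⟶ B := Spec.preimage (j ≫ hV.isoSpec.hom)
  have hφ : Spec.map φ ≫ hV.fromSpec = j ≫ V.ι := by
    rw [Spec.map_preimage, Category.assoc, hV.isoSpec_hom_fromSpec]
  haveI : IsAffineHom H₁.hom := isAffineHom_of_isMultTypeLoc (WeilClosedLib.IsMultTypeLoc.of_isMultTypeFT h₁)
  haveI : IsAffineHom H₂.hom := isAffineHom_of_isMultTypeLoc (WeilClosedLib.IsMultTypeLoc.of_isMultTypeFT h₂)
  haveI : LocallyOfFiniteType H₁.hom := MonoFibre.locallyOfFiniteType_of_isMultTypeFT H₁ h₁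
  haveI : LocallyOfFiniteType H₂.hom := MonoFibre.locallyOfFiniteType_of_isMultTypeFT H₂ h₂
  haveI := flat_hom_of_isMultTypeFT h₁
  haveI := flat_hom_of_isMultTypeFT h₂
  have e : (𝟙 (Spec B)) ≫ (j ≫ V.ι) = Spec.map φ ≫ hV.fromSpec := by rw [Category.id_comp, hφ]
  obtain ⟨s₁, hs₁⟩ := exists_split_descend hV.fromSpec φ (σ₁.comp (𝟙 _) e)
  obtain ⟨s₂, hs₂⟩ := exists_split_descend hV.fromSpec φ (σ₂.comp (𝟙 _) e)
  letI : Algebra R B := φ.hom.toAlgebra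
  let W : Subalgebra R B := Algebra.adjoin R ((s₁ ∪ s₂ : Finset B) : Set B)
  haveI : Algebra.FiniteType R W := (Subalgebra.fg_iff_finiteType W).1 (Subalgebra.fg_adjoin_finset _)
  haveI : IsNoetherianRing W := Algebra.FiniteType.isNoetherianRing R W
  let B₁ : CommRingCat.{u} := CommRingCat.of W
  let α₁ : R ⟶ B₁ := CommRingCat.ofHom (algebraMap R W)
  let a : B₁ ⟶ B := CommRingCat.ofHom W.val.toRingHom
  have ha : α₁ ≫ a = φ := CommRingCat.hom_ext (RingHom.ext fun x => W.val.commutes x)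
  have hrange : ∀ b ∈ s₁ ∪ s₂, b ∈ Set.range a.hom := fun b hb => ⟨⟨b, Algebra.subset_adjoin hb⟩, rfl⟩
  refine ⟨B₁, a, Spec.map α₁ ≫ hV.fromSpec, by rw [← Category.assoc, ← Spec.map_comp, ha, hφ], inferInstance,
    hs₁ α₁ a ha Subtype.val_injective fun b hb => hrange b (Finset.mem_union_left _ hb),
    hs₂ α₁ a ha Subtype.val_injective fun b hb => hrange b (Finset.mem_union_right _ hb)⟩

theorem exists_le_chart (h₁ : SGA3x.IsMultTypeFT H₁) (h₂ : SGA3x.IsMultTypeFT H₂) [IsSeparated G.hom]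
    (hG : IsLocallyNoetherian S ∨ LocallyOfFiniteType G.hom)
    (i₁ : H₁ ⟶ G) [IsMonHom i₁] (i₂ : H₂ ⟶ G) [IsMonHom i₂] [Mono i₂]
    (hc : ∀ (X : Over S) (a : X ⟶ H₁) (b : X ⟶ H₂), (a ≫ i₁) * (b ≫ i₂) = (b ≫ i₂) * (a ≫ i₁))
    {V : S.Opens} (hV : IsAffineOpen V) {B : CommRingCat.{u}} (j : Spec B ⟶ V.toScheme) {M₁ M₂ : Type}
    [AddCommGroup M₁] [AddCommGroup M₂] [AddGroup.FG M₁] [AddGroup.FG M₂]
    (σ₁ : Split H₁ (j ≫ V.ι) M₁) (σ₂ : Split H₂ (j ≫ V.ι) M₂) (P : PrimeSpectrum B) :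
    ∃ f : B, f ∉ P.asIdeal ∧
      (∀ P' : PrimeSpectrum B, f ∉ P'.asIdeal → (Le i₁ i₂ (S.fromSpecResidueField ((j ≫ V.ι) P')) ↔
        Le i₁ i₂ (S.fromSpecResidueField ((j ≫ V.ι) P)))) ∧
      (Le i₁ i₂ (S.fromSpecResidueField ((j ≫ V.ι) P)) →
        Le i₁ i₂ (Spec.map (CommRingCat.ofHom (algebraMap B (Localization.Away f))) ≫ j ≫ V.ι)) := by
  haveI : IsAffineHom H₁.hom := isAffineHom_of_isMultTypeLoc (WeilClosedLib.IsMultTypeLoc.of_isMultTypeFT h₁)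
  have hcomm := fun X : Over S => points_comm (X := X) (hasSplitCoversFG_of_isMultTypeFT h₂).hasSplitCovers
  obtain ⟨B₁, a, t₁, ha, hB₁, ⟨τ₁⟩, ⟨τ₂⟩⟩ : ∃ (B₁ : CommRingCat.{u}) (a : B₁ ⟶ B) (t₁ : Spec B₁ ⟶ S),
      Spec.map a ≫ t₁ = j ≫ V.ι ∧ (IsLocallyNoetherian (Spec B₁) ∨ LocallyOfFiniteType G.hom) ∧
        Nonempty (Split H₁ t₁ M₁) ∧ Nonempty (Split H₂ t₁ M₂) := by
    rcases hG with hS | hft
    · obtain ⟨B₁, a, t₁, ha, hB₁, hs⟩ := exists_noeth_chart h₁ h₂ hV j σ₁ σ₂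
      exact ⟨B₁, a, t₁, ha, Or.inl hB₁, hs⟩
    · exact ⟨B, 𝟙 B, j ≫ V.ι, by simp, Or.inr hft, ⟨σ₁⟩, ⟨σ₂⟩⟩
  let P₁ : PrimeSpectrum B₁ := PrimeSpectrum.comap a.hom P
  obtain ⟨f, Q, hf, hQ⟩ := exists_le_local τ₁ τ₂ i₁ i₂ hc hcomm hB₁ P₁
  have key : ∀ {D : CommRingCat.{u}} [Nontrivial D] (g : B ⟶ D), IsUnit (g.hom (a.hom f)) →
      (Le i₁ i₂ (Spec.map g ≫ j ≫ V.ι) ↔ Q) := fun {D} _ g hg => by
    rw [← ha, ← Category.assoc, ← Spec.map_comp]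
    exact hQ (a ≫ g) hg
  have hres : ∀ P' : PrimeSpectrum B, a.hom f ∉ P'.asIdeal →
      (Le i₁ i₂ (S.fromSpecResidueField ((j ≫ V.ι) P')) ↔ Q) := fun P' hP' => by
    rw [le_residue_iff]
    exact key _ (IsUnit.mk0 _ (mt Ideal.algebraMap_residueField_eq_zero.1 hP'))
  refine ⟨a.hom f, hf, fun P' hP' => (hres P' hP').trans (hres P hf).symm, fun h => ?_⟩
  haveI : Nontrivial (Localization.Away (a.hom f)) := by
    refine nontrivial_of_ne 0 1 fun h01 => hf ?_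
    obtain ⟨⟨x, n, rfl⟩, hx⟩ := (IsLocalization.map_eq_zero_iff (Submonoid.powers (a.hom f))
      (Localization.Away (a.hom f)) (1 : B)).1 (by rw [map_one, h01])
    refine P.isPrime.mem_of_pow_mem n ?_
    rw [_root_.mul_one] at hx
    simp only at hx
    rw [hx]
    exact Ideal.zero_mem _
  exact (key _ (IsLocalization.Away.algebraMap_isUnit (a.hom f))).2 ((hres P hf).1 h)

/-- The containment locus is open and closed, and containment holds over it. -/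
theorem exists_le_clopen (h₁ : SGA3x.IsMultTypeFT H₁) (h₂ : SGA3x.IsMultTypeFT H₂) [IsSeparated G.hom]
    (hG : IsLocallyNoetherian S ∨ LocallyOfFiniteType G.hom)
    (i₁ : H₁ ⟶ G) [IsMonHom i₁] (i₂ : H₂ ⟶ G) [IsMonHom i₂] [Mono i₂]
    (hc : ∀ (X : Over S) (a : X ⟶ H₁) (b : X ⟶ H₂), (a ≫ i₁) * (b ≫ i₂) = (b ≫ i₂) * (a ≫ i₁)) :
    ∃ U : S.Opens, IsClosed (U : Set S) ∧ (∀ s : S, s ∈ U ↔ Le i₁ i₂ (S.fromSpecResidueField s)) ∧
      Le i₁ i₂ U.ι := by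
  let u := pullback.fst i₁ i₂
  have charts : ∀ V : S.Opens, IsAffineOpen V →
      ∃ (T : Scheme.{u}) (_ : IsAffine T) (k : T ⟶ V.toScheme) (𝒰 : T.OpenCover), Flat k ∧ Surjective k ∧
        ∀ i, ∃ (B : CommRingCat.{u}) (e : Spec B ≅ 𝒰.X i) (M M' : Type) (_ : AddCommGroup M) (_ : AddCommGroup M'),
          AddGroup.FG M ∧ AddGroup.FG M' ∧ Nonempty (Split H₁ ((e.hom ≫ 𝒰.f i ≫ k) ≫ V.ι) M) ∧
            Nonempty (Split H₂ ((e.hom ≫ 𝒰.f i ≫ k) ≫ V.ι) M') := fun V hV => by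
    obtain ⟨κ₁, _, B₁, g₁, hf₁, hs₁, hσ₁⟩ := (hasSplitCoversFG_of_isMultTypeFT h₁).exists_over V hV
    obtain ⟨κ₂, _, B₂, g₂, hf₂, hs₂, hσ₂⟩ := (hasSplitCoversFG_of_isMultTypeFT h₂).exists_over V hV
    haveI := hf₁
    haveI := hf₂
    haveI : IsAffine V.toScheme := hV
    let X : κ₁ × κ₂ → Scheme.{u} := fun i => pullback (g₁ i.1) (g₂ i.2)
    haveI : ∀ i, IsAffine (X i) := fun i => inferInstance
    let g : ∀ i, X i ⟶ V.toScheme := fun i => pullback.fst (g₁ i.1) (g₂ i.2) ≫ g₁ i.1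
    haveI : ∀ i, Flat (g i) := fun i => inferInstance
    refine ⟨∐ X, inferInstance, Sigma.desc g, sigmaOpenCover X, ?_, ⟨fun z => ?_⟩, fun i => ?_⟩
    · haveI : IsZariskiLocalAtSource (@Flat.{u}) :=
        HasRingHomProperty.instIsZariskiLocalAtSource.{u} (Q := RingHom.Flat)
      exact IsZariskiLocalAtSource.sigmaDesc fun i => inferInstance
    · obtain ⟨i, a, ha⟩ := hs₁ z
      obtain ⟨j, b, hb⟩ := hs₂ z
      obtain ⟨w, hw, -⟩ := Scheme.Pullback.exists_preimage_pullback (f := g₁ i) (g := g₂ j) a b (ha.trans hb.symm)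
      refine ⟨Sigma.ι X (i, j) w, ?_⟩
      erw [← Scheme.Hom.comp_apply, Sigma.ι_desc]
      show (pullback.fst (g₁ i) (g₂ j) ≫ g₁ i) w = z
      rw [Scheme.Hom.comp_apply, hw, ha]
    · obtain ⟨M, _, hM, ⟨σ⟩⟩ := hσ₁ i.1
      obtain ⟨M', _, hM', ⟨τ⟩⟩ := hσ₂ i.2
      have e : ∀ q : Spec Γ(X i, ⊤) ≅ X i, (q.hom ≫ Sigma.ι X i ≫ Sigma.desc g) ≫ V.ι =
          (q.hom ≫ g i) ≫ V.ι := fun q => by rw [Sigma.ι_desc]
      refine ⟨Γ(X i, ⊤), (X i).isoSpec.symm, M, M', inferInstance, inferInstance, hM, hM',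
        ⟨σ.comp ((X i).isoSpec.inv ≫ pullback.fst _ _) ?_⟩, ⟨τ.comp ((X i).isoSpec.inv ≫ pullback.snd _ _) ?_⟩⟩
      · refine Eq.trans ?_ (e _).symm
        simp [g]
      · refine Eq.trans ?_ (e _).symm
        simp [g, pullback.condition_assoc]
  let T : Set S := {s | Le i₁ i₂ (S.fromSpecResidueField s)}
  have hop : ∀ R : Prop → Prop, IsOpen {s : S | R (Le i₁ i₂ (S.fromSpecResidueField s))} := by
    intro R
    refine isOpen_iff_forall_mem_open.2 fun s hs => ?_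
    obtain ⟨V, hV, hsV, -⟩ := exists_isAffineOpen_mem_and_subset (x := s) (U := ⊤) trivial
    obtain ⟨X, _, k, 𝒰, _, _, hch⟩ := charts V hV
    haveI : IsAffine V.toScheme := hV
    let A : Set S := {s : S | R (Le i₁ i₂ (S.fromSpecResidueField s))}
    have hop : IsOpen (V.ι ⁻¹' A) := by
      rw [← (Flat.isQuotientMap_of_surjective k).isOpen_preimage]
      refine isOpen_iff_forall_mem_open.2 fun z hz => ?_
      obtain ⟨z', hz'⟩ := 𝒰.covers z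
      obtain ⟨B, e, M, M', _, _, hM, hM', ⟨σ⟩, ⟨τ⟩⟩ := hch (𝒰.idx z)
      haveI := hM
      haveI := hM'
      let j : Spec B ⟶ X := e.hom ≫ 𝒰.f (𝒰.idx z)
      obtain ⟨p, hp⟩ : z ∈ Set.range j := ⟨e.inv z', by
        rw [← Scheme.Hom.comp_apply, Iso.inv_hom_id_assoc]; exact hz'⟩
      obtain ⟨f, hf, hloc, -⟩ := exists_le_chart h₁ h₂ hG i₁ i₂ hc hV (e.hom ≫ 𝒰.f (𝒰.idx z) ≫ k) σ τ p
      refine ⟨j '' (PrimeSpectrum.basicOpen f : Set (PrimeSpectrum B)), ?_,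
        j.isOpenEmbedding.isOpenMap _ (PrimeSpectrum.basicOpen f).2, ⟨p, hf, hp⟩⟩
      rintro _ ⟨p', hp', rfl⟩
      have e1 : ∀ x : Spec B, V.ι (k (j x)) = ((e.hom ≫ 𝒰.f (𝒰.idx z) ≫ k) ≫ V.ι) x := fun x => by
        simp only [j, Scheme.Hom.comp_apply]
      show R (Le i₁ i₂ (S.fromSpecResidueField (V.ι (k (j p')))))
      rw [e1, propext (hloc p' hp'), ← e1, hp]
      exact hz
    exact ⟨V.ι '' (V.ι ⁻¹' A), Set.image_preimage_subset _ _, V.ι.isOpenEmbedding.isOpenMap _ hop,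
      ⟨⟨s, hsV⟩, hs, rfl⟩⟩
  let U : S.Opens := ⟨T, hop id⟩
  refine ⟨U, ⟨hop Not⟩, fun s => Iff.rfl, (le_iff_isIso i₁ i₂ _).2 ?_⟩
  refine SplitHom.of_cover (P := isoP) u U.toScheme.affineCover fun i => ?_
  let a : U.toScheme.affineCover.X i ⟶ S := U.toScheme.affineCover.f i ≫ U.ι
  let V : S.Opens := a.opensRange
  have hV : IsAffineOpen V := isAffineOpen_opensRange a
  refine SplitHom.of_base (P := isoP) u a.isoOpensRange.hom (Scheme.Hom.isoOpensRange_hom_ι a) ?_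
  obtain ⟨X, _, k, 𝒰, _, _, hch⟩ := charts V hV
  haveI : IsAffine V.toScheme := hV
  refine SplitHom.of_fpqc (P := isoP) u k rfl (SplitHom.of_cover (P := isoP) u 𝒰 fun l => ?_)
  obtain ⟨B, e, M, M', _, _, hM, hM', ⟨σ⟩, ⟨τ⟩⟩ := hch l
  haveI := hM
  haveI := hM'
  refine SplitHom.of_base (P := isoP) u e.inv (by simp [V]) (t := e.hom ≫ 𝒰.f l ≫ k ≫ V.ι) ?_
  choose f hf hloc hP using fun p => exists_le_chart h₁ h₂ hG i₁ i₂ hc hV (e.hom ≫ 𝒰.f l ≫ k) σ τ p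
  have hall : ∀ p : Spec B, ((e.hom ≫ 𝒰.f l ≫ k) ≫ V.ι) p ∈ T := fun p => by
    rw [Scheme.Hom.comp_apply]
    obtain ⟨y, hy⟩ := ((e.hom ≫ 𝒰.f l ≫ k) p).2
    rw [Scheme.Opens.ι_apply, ← hy]
    show U.ι ((U.toScheme.affineCover.f i) y) ∈ T
    exact ((U.toScheme.affineCover.f i) y).2
  have hspan : Ideal.span (Set.range f) = ⊤ := by
    by_contra hne
    obtain ⟨m, hm, hle⟩ := Ideal.exists_le_maximal _ hne
    exact hf ⟨m, hm.isPrime⟩ (hle (Ideal.subset_span ⟨⟨m, hm.isPrime⟩, rfl⟩))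
  refine SplitHom.of_cover (P := isoP) u (Scheme.affineOpenCoverOfSpanRangeEqTop f hspan).openCover fun p => ?_
  have := (le_iff_isIso i₁ i₂ _).1 (hP p (hall p))
  refine SplitHom.of_base (P := isoP) u (𝟙 _) ?_ this
  rw [Category.id_comp]
  simp [Category.assoc]

theorem Le.of_comp {i₁ : H₁ ⟶ G} {i₂ : H₂ ⟶ G} {T T' : Scheme.{u}} {t : T ⟶ S} (h : Le i₁ i₂ t) (k : T' ⟶ T)
    {t' : T' ⟶ S} (hk : k ≫ t = t') : Le i₁ i₂ t' := fun Y p x => h Y (p ≫ Over.homMk k hk) x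

theorem le_iff_map (i₁ : H₁ ⟶ G) (i₂ : H₂ ⟶ G) {T : Scheme.{u}} (t : T ⟶ S) :
    Le i₁ i₂ t ↔ ∃ ψ : Red.bc t H₁ ⟶ Red.bc t H₂, ψ ≫ (Over.pullback t).map i₂ = (Over.pullback t).map i₁ := by
  constructor
  · intro h
    let Y : Over T := Red.bc t H₁
    let x : (Over.map t).obj Y ⟶ H₁ := ((Over.mapPullbackAdj t).homEquiv Y H₁).symm (𝟙 Y)
    obtain ⟨h₂, hh₂⟩ := h _ (Over.homMk Y.hom rfl) x
    refine ⟨(Over.mapPullbackAdj t).homEquiv Y H₂ h₂, ?_⟩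
    rw [← Adjunction.homEquiv_naturality_right, hh₂, Adjunction.homEquiv_naturality_right, Equiv.apply_symm_apply,
      Category.id_comp]
  · rintro ⟨ψ, hψ⟩ Y p₀ a
    let Y' : Over T := Over.mk p₀.left
    let e : (Over.map t).obj Y' ≅ Y := Over.isoMk (Iso.refl _) (by
      show 𝟙 _ ≫ Y.hom = p₀.left ≫ t
      rw [Category.id_comp]
      exact (Over.w p₀).symm)
    let x := (Over.mapPullbackAdj t).homEquiv Y' H₁ (e.hom ≫ a)
    refine ⟨e.inv ≫ ((Over.mapPullbackAdj t).homEquiv Y' H₂).symm (x ≫ ψ), ?_⟩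
    rw [Category.assoc, ← Adjunction.homEquiv_naturality_right_symm, Category.assoc, hψ,
      Adjunction.homEquiv_naturality_right_symm]
    simp [x]

/-- Subgroups contained in each other are equal. -/
theorem exists_iso_iff (i₁ : H₁ ⟶ G) (i₂ : H₂ ⟶ G) [Mono i₁] [Mono i₂] {T : Scheme.{u}} (t : T ⟶ S) :
    (∃ ψ : Red.bc t H₁ ≅ Red.bc t H₂, ψ.hom ≫ (Over.pullback t).map i₂ = (Over.pullback t).map i₁) ↔
      Le i₁ i₂ t ∧ Le i₂ i₁ t := by
  rw [le_iff_map, le_iff_map]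
  haveI : Mono ((Over.pullback t).map i₁) := Functor.map_mono _ _
  haveI : Mono ((Over.pullback t).map i₂) := Functor.map_mono _ _
  constructor
  · rintro ⟨ψ, hψ⟩
    exact ⟨⟨ψ.hom, hψ⟩, ⟨ψ.inv, by rw [← hψ, Iso.inv_hom_id_assoc]⟩⟩
  · rintro ⟨⟨a, ha⟩, ⟨b, hb⟩⟩
    refine ⟨⟨a, b, ?_, ?_⟩, ha⟩
    · rw [← cancel_mono ((Over.pullback t).map i₁), Category.assoc, hb, ha, Category.id_comp]
    · rw [← cancel_mono ((Over.pullback t).map i₂), Category.assoc, ha, hb, Category.id_comp]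

end Groth.Agent.MultKer
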