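import Groth.Agent.MonoNhd.Alg
import Mathlib.GroupTheory.QuotientGroup.Basic
import Mathlib.FieldTheory.IsAlgClosed.AlgebraicClosure
import Mathlib.Algebra.Category.Grp.Injective
import Mathlib.GroupTheory.Finiteness
/-!
A closed subgroup over a local ring which is stable under `D(G/N)` and equals it on the special fibre lies in it.
-/

set_option autoImplicit false
set_option backward.isDefEq.respectTransparency false
set_option backward.isDefEq.respectTransparency.types false

universe u

noncomputable section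

namespace Groth.Agent.MultKer

open MonoidAlgebra Groth.Agent.FixedSmooth Groth.Agent.MonoNhd

variable {A : Type u} [CommRing A] {G : Type} [CommGroup G]

/-- The decomposition into cosets. -/
def cosets (N : Subgroup G) : MonoidAlgebra A G →+* MonoidAlgebra (MonoidAlgebra A G) (G ⧸ N) :=
  FixedSmooth.L (singleOneRingHom.comp singleOneRingHom)
    { toFun := fun g => single (QuotientGroup.mk' N g) (single g 1)
      map_one' := by rw [map_one]; rfl
      map_mul' := fun a b => by rw [single_mul_single, single_mul_single, map_mul, one_mul] }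

theorem cosets_single (N : Subgroup G) (g : G) (a : A) :
    cosets N (single g a) = single (QuotientGroup.mk' N g) (single g a) := by
  rw [cosets, FixedSmooth.L_single]
  simp [single_mul_single]

/-- Restriction of the support to a subgroup. -/
def restrict (N : Subgroup G) : MonoidAlgebra A G →+ MonoidAlgebra A N where
  toFun z := MonoidAlgebra.ofCoeff (z.coeff.comapDomain Subtype.val Subtype.val_injective.injOn)
  map_zero' := by ext; simp
  map_add' a b := by ext; simp

theorem restrict_single (N : Subgroup G) (n : N) (a : A) :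
    restrict N (single (n : G) a) = single n a := by
  ext k
  by_cases h : k = n
  · subst h; simp [restrict]
  · have h' : (k : G) ≠ (n : G) := fun e => h (Subtype.ext e)
    simp [restrict, Finsupp.single_eq_of_ne, h, h', Ne.symm h, Ne.symm h']

theorem restrict_single_not (N : Subgroup G) {g : G} (hg : g ∉ N) (a : A) :
    restrict N (single g a : MonoidAlgebra A G) = 0 := by
  ext k
  have h : g ≠ (k : G) := fun h => hg (h ▸ k.2)
  simp [restrict, Finsupp.single_eq_of_ne, h, Ne.symm h]

/-- The inclusion of the group algebra of a subgroup. -/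
abbrev incl (N : Subgroup G) : MonoidAlgebra A N →+* MonoidAlgebra A G := mapDomainRingHom A N.subtype

theorem incl_restrict (N : Subgroup G) (z : MonoidAlgebra A G) :
    incl N (restrict N z) = (cosets N z).coeff 1 := by
  induction z using MonoidAlgebra.induction_linear with
  | zero => simp
  | add a b ha hb => simp [map_add, ha, hb]
  | single g a =>
    rw [cosets_single]
    by_cases hg : g ∈ N
    · rw [show g = ((⟨g, hg⟩ : N) : G) from rfl, restrict_single]
      have h1 : (QuotientGroup.mk' N g) = 1 := (QuotientGroup.eq_one_iff _).2 hg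
      simp [h1, MonoidAlgebra.mapDomainRingHom]
    · rw [restrict_single_not N hg]
      have h1 : (QuotientGroup.mk' N g) ≠ 1 := fun h => hg ((QuotientGroup.eq_one_iff _).1 h)
      have h2 : (g : G ⧸ N) ≠ 1 := h1
      simp [Finsupp.single_eq_of_ne, Ne.symm h2]

theorem exists_incl_mul (N : Subgroup G) (q : G ⧸ N) (m : G) (hm : QuotientGroup.mk' N m = q) (z : MonoidAlgebra A G) :
    ∃ y : MonoidAlgebra A N, incl N y = single m⁻¹ 1 * (cosets N z).coeff q := by
  induction z using MonoidAlgebra.induction_linear with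
  | zero => exact ⟨0, by simp⟩
  | add a b ha hb =>
    obtain ⟨ya, hya⟩ := ha
    obtain ⟨yb, hyb⟩ := hb
    exact ⟨ya + yb, by simp [map_add, hya, hyb, mul_add]⟩
  | single g a =>
    rw [cosets_single]
    by_cases h : QuotientGroup.mk' N g = q
    · have hn : m⁻¹ * g ∈ N := QuotientGroup.eq.1 ((hm.trans h.symm) : (m : G ⧸ N) = (g : G ⧸ N))
      refine ⟨single ⟨m⁻¹ * g, hn⟩ a, ?_⟩
      simp [h, MonoidAlgebra.mapDomainRingHom, single_mul_single]
    · have h2 : (g : G ⧸ N) ≠ q := h
      exact ⟨0, by simp [Finsupp.single_eq_of_ne, Ne.symm h2]⟩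

/-- Characters of a subgroup with values in an algebraically closed field extend. -/
theorem exists_extend {L : Type u} [Field L] [IsAlgClosed L] (N : Subgroup G) (χ : N →* L) :
    ∃ ψ : G →* L, ψ.comp N.subtype = χ := by
  letI : DivisibleBy (Additive Lˣ) ℕ := divisibleByOfSMulRightSurj _ _ fun {n} hn x => by
    obtain ⟨z, hz⟩ := IsAlgClosed.exists_pow_nat_eq ((Additive.toMul x : Lˣ) : L) (Nat.pos_of_ne_zero hn)
    have hz0 : z ≠ 0 := fun h => (Additive.toMul x : Lˣ).ne_zero (by rw [← hz, h, zero_pow hn])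
    refine ⟨Additive.ofMul (Units.mk0 z hz0), ?_⟩
    apply Additive.toMul.injective
    exact Units.ext hz
  letI : DivisibleBy (Additive Lˣ) ℤ := AddGroup.divisibleByIntOfDivisibleByNat _
  obtain ⟨ψ, hψ⟩ := (Module.Baer.of_divisible (Additive Lˣ)).extension_property_addMonoidHom
    (MonoidHom.toAdditive N.subtype) (fun a b h => Subtype.val_injective h) (MonoidHom.toAdditive χ.toHomUnits)
  refine ⟨(Units.coeHom L).comp (MonoidHom.toAdditive.symm ψ), MonoidHom.ext fun n => ?_⟩
  have := DFunLike.congr_fun hψ (Additive.ofMul n)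
  show ((Additive.toMul (ψ (Additive.ofMul (n : G))) : Lˣ) : L) = χ n
  exact congrArg (fun x => ((Additive.toMul x : Lˣ) : L)) this

/-- A closed subgroup of `D(G)` over a local ring stable under `D(G/N)` with special fibre in `D(G/N)` kills `N`. -/
theorem sub_one_mem [IsLocalRing A] [Group.FG G] (J : Ideal (MonoidAlgebra A G)) (N : Subgroup G) [Group.FG N]
    (hε : J ≤ RingHom.ker (FixedSmooth.L (RingHom.id A) (1 : G →* A)))
    (hsub : ∀ {L : Type u} [Field L] (g : A →+* L),
      ∀ χ ∈ pts g J, ∀ χ' ∈ pts g J, ∀ ψ : G →* L, ψ * χ = χ' → ψ ∈ pts g J)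
    (hinv : ∀ j ∈ J, ∀ q, (cosets N j).coeff q ∈ J)
    (htriv : ∀ n ∈ N, (single n 1 : MonoidAlgebra A G) - 1 ∈
      J ⊔ (IsLocalRing.maximalIdeal A).map (singleOneRingHom : A →+* MonoidAlgebra A G)) :
    ∀ n ∈ N, (single n 1 : MonoidAlgebra A G) - 1 ∈ J := by
  classical
  let J' : Ideal (MonoidAlgebra A N) := J.comap (incl N)
  have hL : ∀ {L : Type u} [Field L] (g : A →+* L) (χ : G →* L) (z : MonoidAlgebra A N),
      FixedSmooth.L g χ (incl N z) = FixedSmooth.L g (χ.comp N.subtype) z := fun g χ z => by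
    refine RingHom.congr_fun (f := (FixedSmooth.L g χ).comp (incl N)) (MonoidAlgebra.ringHom_ext
      (fun a => ?_) (fun m => ?_)) z <;> simp [MonoidAlgebra.mapDomainRingHom]
  have hup : ∀ {L : Type u} [Field L] (g : A →+* L) (χ : G →* L),
      χ.comp N.subtype ∈ pts g J' → χ ∈ pts g J := fun {L} _ g χ hχ j hj => by
    have hsum : j = FixedSmooth.L (RingHom.id _) (1 : G ⧸ N →* MonoidAlgebra A G) (cosets N j) := by
      refine (RingHom.congr_fun (f := (FixedSmooth.L (RingHom.id _) (1 : G ⧸ N →* MonoidAlgebra A G)).comp (cosets N))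
        (g := RingHom.id _) (MonoidAlgebra.ringHom_ext (fun a => ?_) (fun m => ?_)) j).symm <;>
      · simp only [RingHom.comp_apply, RingHom.id_apply, cosets_single]
        simp
    have h0 : ∀ q, FixedSmooth.L g χ ((cosets N j).coeff q) = 0 := fun q => by
      obtain ⟨m, hm⟩ := QuotientGroup.mk'_surjective N q
      obtain ⟨y, hy⟩ := exists_incl_mul N q m hm j
      have hyJ : y ∈ J' := by
        show incl N y ∈ J
        rw [hy]
        exact J.mul_mem_left _ (hinv j hj q)
      have h1 : FixedSmooth.L g χ (incl N y) = 0 := by rw [hL]; exact RingHom.mem_ker.1 (hχ hyJ)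
      rw [hy, map_mul, FixedSmooth.L_single, map_one, one_mul] at h1
      exact ((Group.isUnit m⁻¹).map χ).mul_right_eq_zero.1 h1
    rw [RingHom.mem_ker, hsum]
    have h2 : ∀ w : MonoidAlgebra (MonoidAlgebra A G) (G ⧸ N),
        FixedSmooth.L (RingHom.id _) (1 : G ⧸ N →* MonoidAlgebra A G) w = w.coeff.sum fun _ b => b := fun w => by
      induction w using MonoidAlgebra.induction_linear with
      | zero => simp
      | add a b ha hb => simp [ha, hb, Finsupp.sum_add_index']
      | single m b => simp
    rw [h2, Finsupp.sum, map_sum]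
    exact Finset.sum_eq_zero fun q _ => h0 q
  have hsub' : ∀ {L : Type u} [Field L] (g : A →+* L),
      ∀ χ ∈ pts g J', ∀ χ' ∈ pts g J', ∀ ψ : N →* L, ψ * χ = χ' → ψ ∈ pts g J' := fun {L} _ g χ hχ χ' hχ' ψ hψ => by
    let a : L →+* AlgebraicClosure L := algebraMap L _
    obtain ⟨X, hX⟩ := exists_extend N (a.toMonoidHom.comp χ)
    obtain ⟨Y, hY⟩ := exists_extend N (a.toMonoidHom.comp χ')
    have hpush : ∀ (θ : N →* L) (Θ : G →* AlgebraicClosure L), Θ.comp N.subtype = a.toMonoidHom.comp θ →
        (θ ∈ pts g J' → Θ.comp N.subtype ∈ pts (a.comp g) J') ∧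
          (Θ ∈ pts (a.comp g) J → θ ∈ pts g J') := fun θ Θ hΘ => by
      have hc : ∀ z, FixedSmooth.L (a.comp g) (Θ.comp N.subtype) z = a (FixedSmooth.L g θ z) := fun z => by
        rw [hΘ, ← RingHom.comp_apply, FixedSmooth.comp_L]
      refine ⟨fun h z hz => ?_, fun h z hz => ?_⟩
      · rw [RingHom.mem_ker, hc, RingHom.mem_ker.1 (h hz), map_zero]
      · have h1 : FixedSmooth.L (a.comp g) Θ (incl N z) = 0 := RingHom.mem_ker.1 (h hz)
        rw [hL, hc] at h1
        exact RingHom.mem_ker.2 (a.injective (h1.trans (map_zero a).symm))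
    let Z : G →* AlgebraicClosure L := Y * X.comp (MulEquiv.inv G).toMonoidHom
    have hXinv : X.comp (MulEquiv.inv G).toMonoidHom * X = 1 := MonoidHom.ext fun x => by
      show X x⁻¹ * X x = 1
      rw [← map_mul, inv_mul_cancel, map_one]
    have hZX : Z * X = Y := by rw [mul_assoc, hXinv, mul_one]
    refine (hpush ψ Z ?_).2 (hsub (a.comp g) X (hup _ X ((hpush χ X hX).1 hχ)) Y (hup _ Y ((hpush χ' Y hY).1 hχ')) Z hZX)
    refine MonoidHom.ext fun n => ?_
    have h1 : Z (n : G) * X (n : G) = Y (n : G) := DFunLike.congr_fun hZX (n : G)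
    rw [show Y (n : G) = a (χ' n) from DFunLike.congr_fun hY n, show X (n : G) = a (χ n) from DFunLike.congr_fun hX n,
      show a (χ' n) = a (ψ n) * a (χ n) by rw [← map_mul, ← DFunLike.congr_fun hψ n]; rfl] at h1
    exact mul_right_cancel₀ ((((Group.isUnit n).map χ).map a).ne_zero) h1
  have hε' : J' ≤ RingHom.ker (FixedSmooth.L (RingHom.id A) (1 : N →* A)) := fun z hz => by
    have h1 := RingHom.mem_ker.1 (hε hz)
    rw [RingHom.mem_ker, ← h1]
    refine (RingHom.congr_fun (f := (FixedSmooth.L (RingHom.id A) (1 : G →* A)).comp (incl N))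
      (MonoidAlgebra.ringHom_ext (fun a => ?_) (fun m => ?_)) z).symm <;> simp [MonoidAlgebra.mapDomainRingHom]
  have htriv' : ∀ n : N, (single n 1 : MonoidAlgebra A N) - 1 ∈
      J' ⊔ (IsLocalRing.maximalIdeal A).map (singleOneRingHom : A →+* MonoidAlgebra A N) := fun n => by
    obtain ⟨j, hj, p, hp, hjp⟩ := Submodule.mem_sup.1 (htriv n n.2)
    have h1 := congrArg (restrict N) hjp
    rw [map_add, map_sub, restrict_single, MonoidAlgebra.one_def,
      show (single (1 : G) (1 : A)) = single ((1 : N) : G) 1 from rfl, restrict_single, ← MonoidAlgebra.one_def] at h1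
    rw [← h1]
    refine Submodule.add_mem_sup ?_ ?_
    · show incl N (restrict N j) ∈ J
      rw [incl_restrict]
      exact hinv j hj 1
    · refine FixedSmooth.mem_map_of_coeff fun m => ?_
      have hc : p.coeff (m : G) ∈ IsLocalRing.maximalIdeal A := by
        refine Submodule.span_induction (p := fun x _ => ∀ k, x.coeff k ∈ IsLocalRing.maximalIdeal A)
          ?_ ?_ ?_ ?_ hp (m : G)
        · rintro _ ⟨r, hr, rfl⟩ k
          by_cases hk : k = 1
          · subst hk; simpa using hr
          · simp [Finsupp.single_apply, Ne.symm hk]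
        · simp
        · intro x y _ _ hx hy k
          simpa using add_mem (hx k) (hy k)
        · intro a x _ hx k
          rw [smul_eq_mul, MonoidAlgebra.coeff_mul]
          refine Submodule.sum_mem _ fun i _ => Submodule.sum_mem _ fun l _ => ?_
          dsimp only
          split_ifs
          · exact Ideal.mul_mem_left _ _ (hx l)
          · exact zero_mem _
      simpa [restrict] using hc
  intro n hn
  have := aug_le J' hε' hsub' htriv' ⟨n, hn⟩
  have h2 : incl N (single (⟨n, hn⟩ : N) 1 - 1) ∈ J := this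
  rw [map_sub, map_one] at h2
  simpa [MonoidAlgebra.mapDomainRingHom] using h2

/-- Stability under `D(G/N)` gives homogeneity. -/
theorem coeff_cosets_mem (J : Ideal (MonoidAlgebra A G)) (N : Subgroup G)
    (h : ∀ {D : Type u} [CommRing D] (c : A →+* D) (χ₁ χ₂ : G →* D), J ≤ RingHom.ker (FixedSmooth.L c χ₁) →
      (∀ n ∈ N, χ₂ n = 1) → J ≤ RingHom.ker (FixedSmooth.L c (χ₁ * χ₂))) :
    ∀ j ∈ J, ∀ q, (cosets N j).coeff q ∈ J := by
  intro j hj q
  let R := MonoidAlgebra A G ⧸ J
  letI iC : CommRing (MonoidAlgebra R (G ⧸ N)) := MonoidAlgebra.commRing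
  let c : A →+* MonoidAlgebra R (G ⧸ N) := singleOneRingHom.comp ((Ideal.Quotient.mk J).comp singleOneRingHom)
  let χ₁ : G →* MonoidAlgebra R (G ⧸ N) := (singleOneRingHom : R →+* MonoidAlgebra R (G ⧸ N)).toMonoidHom.comp
    ((Ideal.Quotient.mk J).toMonoidHom.comp (of A G))
  let χ₂ : G →* MonoidAlgebra R (G ⧸ N) := (of R _).comp (QuotientGroup.mk' N)
  have hL₁ : @FixedSmooth.L A (MonoidAlgebra R (G ⧸ N)) _ iC G _ c χ₁ = (singleOneRingHom : R →+* MonoidAlgebra R (G ⧸ N)).comp (Ideal.Quotient.mk J) :=
    by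
    refine MonoidAlgebra.ringHom_ext (fun a => ?_) (fun m => ?_)
    · rw [FixedSmooth.L_single, map_one, mul_one]; rfl
    · rw [FixedSmooth.L_single, map_one, one_mul]; rfl
  have e₃ := h (D := MonoidAlgebra R (G ⧸ N)) c χ₁ χ₂ (fun z hz => by
    rw [RingHom.mem_ker, hL₁, RingHom.comp_apply, Ideal.Quotient.eq_zero_iff_mem.2 hz, map_zero]) fun n hn => by
    show of R _ (QuotientGroup.mk' N n) = 1
    rw [show QuotientGroup.mk' N n = 1 from (QuotientGroup.eq_one_iff n).2 hn, map_one]
  have hL₂ : @FixedSmooth.L A (MonoidAlgebra R (G ⧸ N)) _ iC G _ c (χ₁ * χ₂) = (mapRingHom _ (Ideal.Quotient.mk J)).comp (cosets (A := A) N) :=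
    by
    refine MonoidAlgebra.ringHom_ext (fun a => ?_) (fun m => ?_)
    · rw [FixedSmooth.L_single, map_one, mul_one]
      show _ = mapRingHom (G ⧸ N) (Ideal.Quotient.mk J) (cosets N (single 1 a))
      rw [cosets_single, mapRingHom_single]
      rw [map_one]
      rfl
    · rw [FixedSmooth.L_single, map_one, one_mul]
      show _ = mapRingHom (G ⧸ N) (Ideal.Quotient.mk J) (cosets N (single m 1))
      rw [cosets_single, mapRingHom_single]
      show (single 1 (Ideal.Quotient.mk J (single m 1)) : MonoidAlgebra R (G ⧸ N)) * single (QuotientGroup.mk' N m) 1 = _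
      rw [single_mul_single, one_mul, mul_one]
  have h0 := RingHom.mem_ker.1 (e₃ hj)
  rw [hL₂] at h0
  change mapRingHom (G ⧸ N) (Ideal.Quotient.mk J) (cosets N j) = 0 at h0
  have := congrArg (fun z => MonoidAlgebra.coeff z q) h0
  exact Ideal.Quotient.eq_zero_iff_mem.1 (by simpa using this)

end Groth.Agent.MultKer
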