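import Groth.Agent.SplitHom.Chart
import Groth.Agent.HomDesc.BaseChange
import Groth.Agent.HomTriv.Main
/-!
The diagonalisable subgroups of a split group, as homomorphisms.
-/

set_option autoImplicit false
set_option backward.isDefEq.respectTransparency false
set_option backward.isDefEq.respectTransparency.types false
set_option linter.style.haveILetI false

universe u

open CategoryTheory CategoryTheory.Limits MonoidalCategory CartesianMonoidalCategory MonObj AlgebraicGeometry

noncomputable section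

namespace Groth.Agent.MultKer

open FixedSmooth HomTriv

variable {S : Scheme.{u}}

/-- The canonical splitting of `D(Q)`. -/
theorem exists_dsSplit (T : Scheme.{u}) (Q : Type) [AddCommGroup Q] : Nonempty (Split (Red.DS T Q) (𝟙 T) Q) :=
  exists_split (𝟙 T) Q (HomDesc.bcGrpIso (𝟙 T) (Limits.IsTerminal.from specULiftZIsTerminal T)
    (Category.id_comp _) (Red.diag (ULift.{u} ℤ) Q))

/-- A quotient of the characters of a split group gives a homomorphism. -/
theorem exists_sub_of_split {H : Over S} [GrpObj H] {B : CommRingCat.{u}} {t : Spec B ⟶ S} {M Q : Type} [AddCommGroup M]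
    [AddCommGroup Q] (σ : Split H t M) (π : Multiplicative M →* Multiplicative Q) {T : Over (Spec B)} [GrpObj T] [IsAffineHom T.hom]
    (τ₀ : Split T (𝟙 (Spec B)) Q) :
    ∃ (f : T ⟶ Red.bc t H) (_ : IsMonHom f)
      (τ : ∀ {D : CommRingCat.{u}} (g : B ⟶ D), (Multiplicative Q →* D) → (Over.mk (Spec.map g) ⟶ T)),
      (∀ {D : CommRingCat.{u}} (g : B ⟶ D), Function.Bijective (τ g)) ∧
      ∀ {D : CommRingCat.{u}} (g : B ⟶ D) (χ : Multiplicative Q →* D),
        τ g χ ≫ f = adjEquiv t H (Over.mk (Spec.map g)) (σ.pt D (Spec.map g) (χ.comp π)) := by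
  have hp := SplitHom.isPullback_univ τ₀
  haveI : IsIso (univ τ₀).left := hp.isIso_fst_of_isIso
  let U : Over.mk (Spec.map (gc B Q)) ⟶ T := Over.homMk (univ τ₀).left (by
    exact (Over.w (univ τ₀)).trans (Category.comp_id _))
  let x₀ : Over.mk (Spec.map (gc B Q) ≫ t) ⟶ H := σ.pt (GA B Q) (Spec.map (gc B Q))
    ((MonoidAlgebra.of B (Multiplicative Q)).comp π)
  let x : Over.mk (Spec.map (gc B Q)) ⟶ Red.bc t H := adjEquiv t H _ x₀
  haveI : IsIso U.left := inferInstanceAs (IsIso (univ τ₀).left)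
  haveI : IsIso ((Over.forget _).map U) := inferInstanceAs (IsIso U.left)
  haveI : IsIso U := isIso_of_reflects_iso U (Over.forget _)
  let f : T ⟶ Red.bc t H := inv U ≫ x
  let e : ∀ {D : CommRingCat.{u}} (g : B ⟶ D) (χ : Multiplicative Q →* D),
      Over.mk (Spec.map g) ⟶ Over.mk (Spec.map (gc B Q)) := fun {D} g χ => Over.homMk (Spec.map (gev g χ)) (by
    show Spec.map _ ≫ Spec.map _ = Spec.map g
    rw [← Spec.map_comp]
    congr 1
    exact CommRingCat.hom_ext (L_comp_single g.hom χ))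
  let τ : ∀ {D : CommRingCat.{u}} (g : B ⟶ D), (Multiplicative Q →* D) → (Over.mk (Spec.map g) ⟶ T) :=
    fun g χ => e g χ ≫ U
  let i : ∀ {D : CommRingCat.{u}} (g : B ⟶ D), Over.mk (Spec.map g) ≅ Over.mk (Spec.map g ≫ 𝟙 (Spec B)) := fun g =>
    Over.isoMk (Iso.refl _) (by simp)
  have hτ : ∀ {D : CommRingCat.{u}} (g : B ⟶ D) (χ : Multiplicative Q →* D),
      τ g χ = (i g).hom ≫ τ₀.pt D (Spec.map g) χ := fun g χ => by
    apply Over.OverMorphism.ext
    show Spec.map (gev g χ) ≫ (univ τ₀).left = 𝟙 _ ≫ _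
    rw [Category.id_comp]
    exact (pt_left τ₀ g χ).symm
  have hbij : ∀ {D : CommRingCat.{u}} (g : B ⟶ D), Function.Bijective (τ g) := fun {D} g => by
    rw [show τ g = fun χ => (i g).hom ≫ τ₀.pt D (Spec.map g) χ from funext (hτ g)]
    exact ((precompEquiv (G := T) (i g)).bijective).comp (τ₀.pt D (Spec.map g)).bijective
  have hmul : ∀ {D : CommRingCat.{u}} (g : B ⟶ D) (χ χ' : Multiplicative Q →* D),
      τ g (χ * χ') = τ g χ * τ g χ' := fun g χ χ' => by
    rw [hτ, hτ, hτ, map_mul, MonObj.comp_mul]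
  have hf : ∀ {D : CommRingCat.{u}} (g : B ⟶ D) (χ : Multiplicative Q →* D),
      τ g χ ≫ f = adjEquiv t H (Over.mk (Spec.map g)) (σ.pt D (Spec.map g) (χ.comp π)) := fun {D} g χ => by
    show (e g χ ≫ U) ≫ inv U ≫ x = _
    rw [Category.assoc, IsIso.hom_inv_id_assoc]
    show e g χ ≫ (Over.mapPullbackAdj t).homEquiv _ H x₀ = (Over.mapPullbackAdj t).homEquiv _ H _
    rw [← Adjunction.homEquiv_naturality_left]
    congr 1
    apply Over.OverMorphism.ext
    show Spec.map (gev g χ) ≫ x₀.left = _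
    rw [← SplitHom.pt_comp_left σ (gc B Q) (gev g χ)]
    refine pt_congr σ ?_ ?_
    · congr 1
      exact CommRingCat.hom_ext (L_comp_single g.hom χ)
    · show (L g.hom χ).toMonoidHom.comp ((MonoidAlgebra.of B (Multiplicative Q)).comp π) = χ.comp π
      rw [← MonoidHom.comp_assoc, L_comp_of]
  have hmulf : ∀ (Y : Over (Spec B)) (a b : Y ⟶ T), (a * b) ≫ f = (a ≫ f) * (b ≫ f) := fun Y a b =>
    hom_ext_affine _ _ fun D p w => by
      obtain ⟨g, rfl⟩ := Spec.map_surjective p
      obtain ⟨χ, hχ⟩ := (hbij g).2 (w ≫ a)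
      obtain ⟨χ', hχ'⟩ := (hbij g).2 (w ≫ b)
      rw [← Category.assoc, MonObj.comp_mul, MonObj.comp_mul, ← Category.assoc w a, ← Category.assoc w b, ← hχ, ← hχ',
        ← hmul, hf, hf, hf, MonoidHom.mul_comp, map_mul, map_mul]
  haveI : IsMonHom f := by
    constructor
    · have h1 := hmulf _ (1 : 𝟙_ (Over (Spec B)) ⟶ T) 1
      rw [_root_.one_mul, left_eq_mul] at h1
      rw [MonObj.one_eq_one, MonObj.one_eq_one]
      exact h1
    · have h1 := hmulf _ (fst T T) (snd _ _)
      rw [MonObj.mul_eq_mul, MonObj.mul_eq_mul, MonObj.comp_mul, tensorHom_fst, tensorHom_snd]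
      exact h1
  exact ⟨f, inferInstance, τ, hbij, hf⟩


/-- A quotient of the characters of a split group gives a homomorphism. -/
theorem exists_sub {H : Over S} [GrpObj H] {B : CommRingCat.{u}} {t : Spec B ⟶ S} {M Q : Type} [AddCommGroup M]
    [AddCommGroup Q] (σ : Split H t M) (π : Multiplicative M →* Multiplicative Q) :
    ∃ (f : Red.DS (Spec B) Q ⟶ Red.bc t H) (_ : IsMonHom f)
      (τ : ∀ {D : CommRingCat.{u}} (g : B ⟶ D), (Multiplicative Q →* D) → (Over.mk (Spec.map g) ⟶ Red.DS (Spec B) Q)),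
      (∀ {D : CommRingCat.{u}} (g : B ⟶ D), Function.Bijective (τ g)) ∧
      ∀ {D : CommRingCat.{u}} (g : B ⟶ D) (χ : Multiplicative Q →* D),
        τ g χ ≫ f = adjEquiv t H (Over.mk (Spec.map g)) (σ.pt D (Spec.map g) (χ.comp π)) := by
  obtain ⟨τ₀⟩ := exists_dsSplit (Spec B) Q
  exact @exists_sub_of_split _ _ _ _ _ _ Q _ _ σ π (Red.DS (Spec B) Q) _ (isAffineHom_DS (Spec B) Q) τ₀

end Groth.Agent.MultKer
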