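import Groth.Agent.MultKer.Li
import Groth.Agent.MultKer.Stable
import Groth.Agent.MultKer.Sub
import Groth.Agent.MonoNhd.Main
/-!
The kernel of a homomorphism from a split group to a separated group is locally of the form `D(M/N)`.
-/

set_option autoImplicit false
set_option backward.isDefEq.respectTransparency false
set_option backward.isDefEq.respectTransparency.types false
set_option linter.style.haveILetI false

universe u

open CategoryTheory CategoryTheory.Limits MonoidalCategory CartesianMonoidalCategory MonObj AlgebraicGeometry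

noncomputable section

namespace Groth.Agent.MultKer

open FixedSmooth HomTriv

theorem subgroup_fg {M : Type} [AddCommGroup M] [AddGroup.FG M] (N : Subgroup (Multiplicative M)) : Group.FG N := by
  haveI : Module.Finite ℤ M := Module.Finite.iff_addGroup_fg.2 inferInstance
  haveI : IsNoetherian ℤ M := inferInstance
  have h : (Subgroup.toAddSubgroup' N).toIntSubmodule.FG := IsNoetherian.noetherian _
  rw [Submodule.fg_iff_addSubgroup_fg] at h
  obtain ⟨s, hs⟩ := h
  refine (Group.fg_iff_subgroup_fg N).2 ⟨s.map Multiplicative.ofAdd.toEmbedding, ?_⟩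
  refine le_antisymm ((Subgroup.closure_le N).2 fun x hx => ?_) fun x hx => ?_
  · obtain ⟨m, hm, rfl⟩ := Finset.mem_map.1 hx
    have h1 : m ∈ (Subgroup.toAddSubgroup' N).toIntSubmodule.toAddSubgroup := hs ▸ AddSubgroup.subset_closure hm
    exact h1
  · let K := Subgroup.closure (↑(s.map Multiplicative.ofAdd.toEmbedding) : Set (Multiplicative M))
    have h1 : Multiplicative.toAdd x ∈ AddSubgroup.closure (s : Set M) := hs.symm ▸ hx
    have h2 : AddSubgroup.closure (s : Set M) ≤ Subgroup.toAddSubgroup' K := (AddSubgroup.closure_le _).2 fun m hm => by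
      show Multiplicative.ofAdd m ∈ K
      exact Subgroup.subset_closure (Finset.mem_coe.2 (Finset.mem_map.2 ⟨m, hm, rfl⟩))
    exact h2 h1

theorem isMultTypeFT_DS (T : Scheme.{u}) (Q : Type) [AddCommGroup Q] [AddGroup.FG Q] :
    SGA3x.IsMultTypeFT (Red.DS T Q) := by
  refine ⟨T, 𝟙 T, inferInstance, inferInstance, fun V hV => ⟨V, hV.isCompact, by simp⟩, fun s => ?_⟩
  refine ⟨⊤, trivial, Q, inferInstance, inferInstance, ⟨HomDesc.bcGrpIso _ _ ?_ (Red.diag (ULift.{u} ℤ) Q)⟩⟩
  exact specULiftZIsTerminal.hom_ext _ _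

theorem comp_gmap {B C D : CommRingCat.{u}} (a : B ⟶ C) (b : C ⟶ D) (M : Type) [AddCommGroup M] :
    (gmap b M).hom.comp (gmap a M).hom = (gmap (a ≫ b) M).hom :=
  MonoidAlgebra.ringHom_ext (fun r => by simp) (fun m => by simp)

theorem exists_sub_multType {S : Scheme.{u}} {H : Over S} [GrpObj H] {B : CommRingCat.{u}} {t : Spec B ⟶ S} {M Q : Type}
    [AddCommGroup M] [AddCommGroup Q] [AddGroup.FG Q] (σ : Split H t M)
    (π : Multiplicative M →* Multiplicative Q) :
    ∃ (T : Over (Spec B)) (_ : GrpObj T), SGA3x.IsMultTypeFT T ∧ ∃ (f : T ⟶ Red.bc t H) (_ : IsMonHom f)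
      (τ : ∀ {D : CommRingCat.{u}} (g : B ⟶ D), (Multiplicative Q →* D) → (Over.mk (Spec.map g) ⟶ T)),
      (∀ {D : CommRingCat.{u}} (g : B ⟶ D), Function.Bijective (τ g)) ∧
      ∀ {D : CommRingCat.{u}} (g : B ⟶ D) (χ : Multiplicative Q →* D),
        τ g χ ≫ f = adjEquiv t H (Over.mk (Spec.map g)) (σ.pt D (Spec.map g) (χ.comp π)) :=
  ⟨_, _, isMultTypeFT_DS (Spec B) Q, exists_sub σ π⟩

variable {S : Scheme.{u}} {H G : Over S} [GrpObj H] [GrpObj G] [IsSeparated G.hom] {B : CommRingCat.{u}}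
  {t : Spec B ⟶ S} {M : Type} [AddCommGroup M]

/-- The kernel ideal of a split group. -/
theorem exists_ker_ideal (σ : Split H t M) (u : H ⟶ G) :
    ∃ J₀ : Ideal (GA B M), ∀ {D : CommRingCat.{u}} (g : B ⟶ D) (χ : Multiplicative M →* D),
      J₀ ≤ RingHom.ker (gev g χ).hom ↔ σ.pt D (Spec.map g) χ ≫ u = 1 := by
  obtain ⟨J₀, hJ₀, -⟩ := exists_eq_ideal (univ σ ≫ u) 1
  refine ⟨J₀, fun {D} g χ => ?_⟩
  let k : Over.mk (Spec.map g ≫ t) ⟶ Over.mk (Spec.map (gc B M) ≫ t) := Over.homMk (Spec.map (gev g χ)) (by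
    show Spec.map _ ≫ Spec.map _ ≫ t = _
    rw [← Category.assoc, ← Spec.map_comp]
    congr 2
    exact CommRingCat.hom_ext (L_comp_single g.hom χ))
  have hk : k ≫ univ σ = σ.pt D (Spec.map g) χ := Over.OverMorphism.ext (pt_left σ g χ).symm
  rw [hJ₀, ← hk]
  refine ⟨fun h => ?_, fun h => ?_⟩
  · rw [Category.assoc, show k ≫ univ σ ≫ u = k ≫ 1 from Over.OverMorphism.ext h, MonObj.comp_one]
  · exact congrArg CommaMorphism.left (((Category.assoc _ _ _).symm.trans h).trans (MonObj.comp_one k).symm)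

/-- The points killing a subgroup of characters are in the kernel near a point where they are. -/
theorem exists_sub_le [AddGroup.FG M] (σ : Split H t M) (u : H ⟶ G) [IsMonHom u]
    (hG : IsLocallyNoetherian (Spec B) ∨ LocallyOfFiniteType G.hom) (P : PrimeSpectrum B)
    (N : Subgroup (Multiplicative M))
    (hP : ∀ {D : CommRingCat.{u}} (k : CommRingCat.of P.asIdeal.ResidueField ⟶ D) (χ : Multiplicative M →* D),
      (∀ n ∈ N, χ n = 1) →
      σ.pt D (Spec.map (CommRingCat.ofHom (algebraMap B P.asIdeal.ResidueField) ≫ k)) χ ≫ u = 1) :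
    ∃ f : B, f ∉ P.asIdeal ∧ ∀ {D : CommRingCat.{u}} (g : B ⟶ D) (χ : Multiplicative M →* D),
      IsUnit (g.hom f) → (∀ n ∈ N, χ n = 1) → σ.pt D (Spec.map g) χ ≫ u = 1 := by
  let Q := Additive (Multiplicative M ⧸ N)
  haveI : AddGroup.FG Q := AddGroup.fg_of_group_fg
  let π : Multiplicative M →* Multiplicative Q :=
    (MulEquiv.multiplicativeAdditive (Multiplicative M ⧸ N)).symm.toMonoidHom.comp (QuotientGroup.mk' N)
  obtain ⟨T, _, hT, f, hf, τ, hτ, hτf⟩ := exists_sub_multType σ π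
  haveI := hf
  let u' : T ⟶ Red.bc t G := f ≫ (Over.pullback t).map u
  haveI : IsSeparated (Red.bc t G).hom := inferInstanceAs (IsSeparated (pullback.snd G.hom t))
  have hG' : IsLocallyNoetherian (Spec B) ∨ LocallyOfFiniteType (Red.bc t G).hom :=
    hG.imp id fun h => by
      haveI := h
      exact inferInstanceAs (LocallyOfFiniteType (pullback.snd G.hom t))
  obtain ⟨U, -, hU, hUtriv⟩ := HomTriv.exists_clopen hT hG' u'
  have hu' : ∀ {D : CommRingCat.{u}} (g : B ⟶ D) (χ : Multiplicative Q →* D),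
      τ g χ ≫ u' = adjEquiv t G (Over.mk (Spec.map g)) (σ.pt D (Spec.map g) (χ.comp π) ≫ u) := fun g χ => by
    rw [adjEquiv_comp, ← hτf, Category.assoc]
  let gκ : B ⟶ CommRingCat.of P.asIdeal.ResidueField := CommRingCat.ofHom (algebraMap B P.asIdeal.ResidueField)
  have hPU : (P : Spec B) ∈ U := by
    refine (hU _).2 ?_
    have h := HomTriv.fibre_of_residue u' (t := 𝟙 (Spec B)) P (fun Y p h => hom_ext_affine _ _ fun D p₀ w => by
      obtain ⟨k, hk⟩ := Spec.map_surjective (w ≫ p).left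
      have e : p₀ = Spec.map (gκ ≫ k) := by
        rw [Spec.map_comp, hk]
        exact (Over.w (w ≫ p)).symm.trans (congrArg ((w ≫ p).left ≫ ·) (Category.comp_id _))
      subst e
      obtain ⟨χ, hχ⟩ := (hτ (gκ ≫ k)).2 (w ≫ h)
      rw [← Category.assoc, ← hχ, MonObj.comp_one, hu', hP k (χ.comp π) (fun n hn => by
        show χ (π n) = 1
        have : π n = 1 := by
          show (MulEquiv.multiplicativeAdditive _).symm (QuotientGroup.mk' N n) = 1
          rw [(QuotientGroup.eq_one_iff n).2 hn |> fun h => (show QuotientGroup.mk' N n = 1 from h), map_one]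
        rw [this, map_one]), map_one])
    simpa using h
  obtain ⟨_, ⟨f₁, rfl⟩, hPf, hsub⟩ := PrimeSpectrum.isTopologicalBasis_basic_opens.exists_subset_of_mem_open hPU U.2
  refine ⟨f₁, hPf, fun {D} g χ hg hχ => ?_⟩
  let χ' : Multiplicative Q →* D :=
    (QuotientGroup.lift N χ fun n hn => hχ n hn).comp (MulEquiv.multiplicativeAdditive _).toMonoidHom
  have hχ' : χ'.comp π = χ := MonoidHom.ext fun m => by
    show QuotientGroup.lift N χ (fun n hn => hχ n hn) ((MulEquiv.multiplicativeAdditive (Multiplicative M ⧸ N))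
      ((MulEquiv.multiplicativeAdditive (Multiplicative M ⧸ N)).symm (QuotientGroup.mk' N m))) = χ m
    rw [MulEquiv.apply_symm_apply]
    rfl
  have hrange : Set.range (Spec.map g) ⊆ Set.range U.ι := by
    rw [Scheme.Opens.range_ι]
    rintro _ ⟨y, rfl⟩
    refine hsub ?_
    show f₁ ∉ (y : PrimeSpectrum D).asIdeal.comap g.hom
    exact fun h => (y : PrimeSpectrum D).isPrime.ne_top (Ideal.eq_top_of_isUnit_mem _ h hg)
  let p : Over.mk (Spec.map g) ⟶ Over.mk U.ι :=
    Over.homMk (IsOpenImmersion.lift U.ι (Spec.map g) hrange) (IsOpenImmersion.lift_fac _ _ _)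
  have h := hUtriv _ p (τ g χ')
  rw [hu', hχ', ← map_one (adjEquiv t G (Over.mk (Spec.map g)))] at h
  exact (adjEquiv t G _).injective h

/-- The kernel is locally given by a subgroup of characters. -/
theorem exists_normal_form [AddGroup.FG M] (σ : Split H t M) (u : H ⟶ G) [IsMonHom u]
    (hG : IsLocallyNoetherian (Spec B) ∨ LocallyOfFiniteType G.hom) (P : PrimeSpectrum B) :
    ∃ (f : B) (N : Subgroup (Multiplicative M)), f ∉ P.asIdeal ∧
      ∀ {D : CommRingCat.{u}} (g : B ⟶ D) (χ : Multiplicative M →* D), IsUnit (g.hom f) →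
        (σ.pt D (Spec.map g) χ ≫ u = 1 ↔ ∀ n ∈ N, χ n = 1) := by
  classical
  obtain ⟨J₀, heval⟩ := exists_ker_ideal σ u
  have hpts : ∀ {C D : CommRingCat.{u}} (a : B ⟶ C) (g : C ⟶ D) (χ : Multiplicative M →* D),
      J₀.map (gmap a M).hom ≤ RingHom.ker (L g.hom χ) ↔ σ.pt D (Spec.map (a ≫ g)) χ ≫ u = 1 :=
    fun {C D} a g χ => by
    rw [← heval, Ideal.map_le_iff_le_comap]
    refine forall₂_congr fun j _ => ?_
    rw [Ideal.mem_comap, RingHom.mem_ker, RingHom.mem_ker]
    show L g.hom χ (MonoidAlgebra.mapRingHom _ a.hom j) = 0 ↔ L (a ≫ g).hom χ j = 0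
    rw [← L_map]
    rfl
  let κ : CommRingCat.{u} := CommRingCat.of P.asIdeal.ResidueField
  let gκ : B ⟶ κ := CommRingCat.ofHom (algebraMap B P.asIdeal.ResidueField)
  let Jκ : Ideal (GA κ M) := J₀.map (gmap gκ M).hom
  let N : Subgroup (Multiplicative M) :=
    MonoidHom.ker ((Ideal.Quotient.mk Jκ).toMonoidHom.comp (MonoidAlgebra.of κ (Multiplicative M)))
  have hN : ∀ m, m ∈ N ↔ MonoidAlgebra.single m 1 - 1 ∈ Jκ := fun m => by
    rw [← Ideal.Quotient.eq_zero_iff_mem, map_sub, map_one, sub_eq_zero]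
    rfl
  haveI := subgroup_fg N
  have h1κ : Jκ ≤ RingHom.ker (L (RingHom.id κ) (1 : Multiplicative M →* κ)) :=
    (hpts gκ (𝟙 κ) 1).2 (by rw [map_one, MonObj.one_comp])
  obtain ⟨f₁, hf₁, hsub⟩ := exists_sub_le σ u hG P N (fun {D} k χ hχ => by
    letI : Algebra P.asIdeal.ResidueField D := k.hom.toAlgebra
    refine (hpts gκ k χ).1 (le_ker_of_kills (κ := P.asIdeal.ResidueField) (G := Multiplicative M) Jκ
      (fun h => one_ne_zero (α := P.asIdeal.ResidueField) ((map_one _).symm.trans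
        (RingHom.mem_ker.1 (h1κ (h ▸ Submodule.mem_top (x := (1 : GA κ M))))))) (fun {D'} _ _ χ₁ χ₂ h₁ h₂ => ?_)
      (D := D) χ fun n hn => hχ n ((hN n).2 hn))
    let k' : κ ⟶ CommRingCat.of D' := CommRingCat.ofHom (algebraMap P.asIdeal.ResidueField D')
    have e₁ := (hpts (D := CommRingCat.of D') gκ k' χ₁).1 h₁
    have e₂ := (hpts (D := CommRingCat.of D') gκ k' χ₂).1 h₂
    refine (hpts (D := CommRingCat.of D') gκ k' (χ₁ * χ₂)).2 ?_
    rw [map_mul, MonObj.mul_comp, e₁, e₂, _root_.one_mul])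
  let A : CommRingCat.{u} := CommRingCat.of (Localization.AtPrime P.asIdeal)
  let J : Ideal (GA A M) := J₀.map (gmap (toLoc P) M).hom
  have hu₁ : IsUnit ((toLoc P).hom f₁) :=
    IsLocalization.map_units (Localization.AtPrime P.asIdeal) (⟨f₁, hf₁⟩ : P.asIdeal.primeCompl)
  have key := sub_one_mem (A := Localization.AtPrime P.asIdeal) (G := Multiplicative M) J N
    ((hpts (toLoc P) (𝟙 A) 1).2 (by rw [map_one, MonObj.one_comp]))
    (fun {L'} _ g χ hχ χ' hχ' ψ hψ => by
      let g' : A ⟶ CommRingCat.of L' := CommRingCat.ofHom g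
      have h1 := (hpts (toLoc P) g' χ).1 hχ
      have h2 := (hpts (toLoc P) g' χ').1 hχ'
      refine (hpts (toLoc P) g' ψ).2 ?_
      have h3 : σ.pt (CommRingCat.of L') (Spec.map (toLoc P ≫ g')) χ' =
          σ.pt (CommRingCat.of L') (Spec.map (toLoc P ≫ g')) ψ *
            σ.pt (CommRingCat.of L') (Spec.map (toLoc P ≫ g')) χ := by
        rw [← map_mul, hψ]
      rw [h3, MonObj.mul_comp, h1, _root_.mul_one] at h2
      exact h2)
    (fun j hj q => coeff_cosets_mem J N (fun {D'} _ c χ₁ χ₂ h₁ h₂ => by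
      let c' : A ⟶ CommRingCat.of D' := CommRingCat.ofHom c
      have e₁ := (hpts (D := CommRingCat.of D') (toLoc P) c' χ₁).1 h₁
      have e₂ : σ.pt (CommRingCat.of D') (Spec.map (toLoc P ≫ c')) χ₂ ≫ u = 1 :=
        hsub (toLoc P ≫ c') χ₂ (hu₁.map c) h₂
      refine (hpts (D := CommRingCat.of D') (toLoc P) c' (χ₁ * χ₂)).2 ?_
      rw [map_mul, MonObj.mul_comp, e₁, e₂, _root_.one_mul]) j hj q)
    (fun n hn => by
      let q : A ⟶ κ := CommRingCat.ofHom (IsLocalRing.residue (Localization.AtPrime P.asIdeal))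
      have hres : toLoc P ≫ q = gκ := rfl
      have hsurj : Function.Surjective (gmap q M).hom := mapRingHom_surjective _ IsLocalRing.residue_surjective
      have hx : (gmap q M).hom (MonoidAlgebra.single n 1 - 1) ∈ J.map (gmap q M).hom := by
        rw [Ideal.map_map, comp_gmap, hres]
        have e : (gmap q M).hom (MonoidAlgebra.single n 1 - 1) = MonoidAlgebra.single n 1 - 1 := by
          rw [map_sub, map_one]
          congr 1
          show MonoidAlgebra.mapRingHom _ q.hom (MonoidAlgebra.single n 1) = _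
          rw [MonoidAlgebra.mapRingHom_single, map_one]
        rw [e]
        exact (hN n).1 hn
      rw [← Ideal.mem_comap, Ideal.comap_map_of_surjective' _ hsurj] at hx
      refine (sup_le_sup_left ?_ J) hx
      intro z hz
      refine mem_map_of_coeff fun m => ?_
      have h4 := congrArg (fun y => MonoidAlgebra.coeff y m) (RingHom.mem_ker.1 hz)
      simp only [MonoidAlgebra.coeff_zero, Finsupp.coe_zero, Pi.zero_apply] at h4
      refine Ideal.Quotient.eq_zero_iff_mem.1 (Eq.trans ?_ h4)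
      simp
      rfl)
  obtain ⟨gens, hgens⟩ := (Group.fg_iff_subgroup_fg N).1 inferInstance
  have hkill : ∀ n ∈ gens, ∃ s, s ∉ P.asIdeal ∧ (gc B M).hom s * (MonoidAlgebra.single n 1 - 1) ∈ J₀ := fun n hn => by
    refine MonoNhd.exists_mul_mem P J₀ _ ?_
    have := key n (hgens ▸ Subgroup.subset_closure hn)
    simpa [J] using this
  choose! s hs hsy using hkill
  refine ⟨f₁ * ∏ n ∈ gens, s n, N, fun h => (P.isPrime.mem_or_mem h).elim hf₁ fun h' => ?_, fun {D} g χ hg => ?_⟩
  · obtain ⟨y, hy, hy'⟩ := P.isPrime.prod_mem_iff.1 h'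
    exact hs y hy hy'
  rw [map_mul, IsUnit.mul_iff] at hg
  refine ⟨fun h n hn => ?_, fun h => hsub g χ hg.1 h⟩
  have hJ := (heval g χ).2 h
  suffices hle : N ≤ MonoidHom.ker χ from hle hn
  rw [← hgens, Subgroup.closure_le]
  intro m hm
  have h5 := RingHom.mem_ker.1 (hJ (hsy m hm))
  rw [map_prod, IsUnit.prod_iff] at hg
  have h6 : g.hom (s m) * (χ m - 1) = 0 := by simpa using h5
  exact sub_eq_zero.1 ((hg.2 m hm).mul_right_eq_zero.1 h6)

end Groth.Agent.MultKer
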