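import Groth.Agent.MonoNhd.Alg
import Mathlib.RingTheory.Coalgebra.GroupLike
/-!
Closed subgroups of diagonalisable groups over a field are diagonalisable.
-/

set_option autoImplicit false
set_option backward.isDefEq.respectTransparency false
set_option backward.isDefEq.respectTransparency.types false

universe u

noncomputable section

namespace Groth.Agent.MultKer

open MonoidAlgebra Groth.Agent.FixedSmooth TensorProduct

theorem linearIndepOn_gl {κ B : Type u} [Field κ] [CommRing B] [Algebra κ B] (Δ : B →ₗ[κ] B ⊗[κ] B) (t : Set B)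
    (hΔ : ∀ a ∈ t, Δ a = a ⊗ₜ a) (h0 : (0 : B) ∉ t) : LinearIndepOn κ id t := by
  classical
  rw [linearIndepOn_iff_linearIndepOn_finset]
  rintro s hs
  induction s using Finset.cons_induction with
  | empty => simp
  | cons a s has ih =>
  simp only [Finset.cons_eq_insert, Finset.coe_insert, Set.insert_subset_iff] at hs
  obtain ⟨ha, hs⟩ := hs
  specialize ih hs
  rw [Finset.coe_cons]
  refine ih.id_insert' ?_
  intro d hd
  obtain ⟨c, -, hc⟩ := Submodule.mem_span_finset.1 hd
  replace ih := ih.tmul_of_isDomain ih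
  simp_rw [← Finset.coe_product, linearIndepOn_finset_iffₛ, id] at ih
  have key := calc
        ∑ x ∈ s, ∑ y ∈ s, (if x = y then d * c x else 0) • x ⊗ₜ[κ] y
    _ = d • ∑ x ∈ s, c x • x ⊗ₜ[κ] x := by simp [Finset.smul_sum, mul_smul]
    _ = d • Δ (d • a) := by
      rw [← hc, map_sum]
      congr 1
      exact Finset.sum_congr rfl fun x hx => by rw [map_smul, hΔ x (hs hx)]
    _ = (d • a) ⊗ₜ (d • a) := by rw [map_smul, hΔ a ha]; simp [smul_tmul', tmul_smul]
    _ = ∑ x ∈ s, ∑ y ∈ s, (c x * c y) • x ⊗ₜ[κ] y := by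
      simp_rw [← hc, sum_tmul, smul_tmul, Finset.smul_sum, tmul_sum, tmul_smul, mul_smul]
  simp_rw [← Finset.sum_product'] at key
  apply ih at key
  by_contra hd0
  have ha0 : a ≠ 0 := fun h => h0 (h ▸ ha)
  have hex : ∃ x ∈ s, c x ≠ 0 := by
    by_contra! h
    rw [Finset.sum_eq_zero fun x hx => by rw [h x hx, zero_smul]] at hc
    exact smul_ne_zero hd0 ha0 hc.symm
  obtain ⟨x, hx, hcx⟩ := hex
  have hcy : ∀ y ∈ s, y ≠ x → c y = 0 := fun y hy hyx => by
    simpa [hyx, hcx] using (key (y, x) (by simp [hx, hy])).symm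
  rw [Finset.sum_eq_single x (fun y hy hyx => by rw [hcy y hy hyx, zero_smul]) (by simp [hx])] at hc
  have hcd : d = c x := mul_left_injective₀ hcx (by simpa using key (x, x) (by simp [hx]))
  rw [hcd, smul_right_inj hcx] at hc
  exact has (hc ▸ hx)

variable {κ : Type u} [Field κ] {G : Type} [CommGroup G]

/-- A closed subgroup of a diagonalisable group over a field contains every point killing the characters it kills. -/
theorem le_ker_of_kills (J : Ideal (MonoidAlgebra κ G)) (hJ : J ≠ ⊤)
    (hmul : ∀ {D : Type u} [CommRing D] [Algebra κ D] (χ χ' : G →* D),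
      J ≤ RingHom.ker (FixedSmooth.L (algebraMap κ D) χ) → J ≤ RingHom.ker (FixedSmooth.L (algebraMap κ D) χ') →
      J ≤ RingHom.ker (FixedSmooth.L (algebraMap κ D) (χ * χ')))
    {D : Type u} [CommRing D] [Algebra κ D] (χ : G →* D) (hχ : ∀ n : G, single n 1 - 1 ∈ J → χ n = 1) :
    J ≤ RingHom.ker (FixedSmooth.L (algebraMap κ D) χ) := by
  classical
  let B := MonoidAlgebra κ G ⧸ J
  haveI : Nontrivial B := Ideal.Quotient.nontrivial_iff.2 hJ
  let g : G →* B := (Ideal.Quotient.mk J).toMonoidHom.comp (of κ G)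
  have key : ∀ (E : Type u) [CommRing E] [Algebra κ E] (i₁ i₂ : B →ₐ[κ] E),
      ∃ Δ : B →ₐ[κ] E, ∀ m, Δ (g m) = i₁ (g m) * i₂ (g m) := fun E _ _ i₁ i₂ => by
    have hpt : ∀ (e : B →ₐ[κ] E),
        J ≤ RingHom.ker (FixedSmooth.L (algebraMap κ E) (e.toRingHom.toMonoidHom.comp g)) := fun e j hj => by
      have hL : FixedSmooth.L (algebraMap κ E) (e.toRingHom.toMonoidHom.comp g) =
          e.toRingHom.comp (Ideal.Quotient.mk J) :=
        MonoidAlgebra.ringHom_ext (fun c => by
          refine ((FixedSmooth.L_single _ _ _ _).trans ?_).trans (e.commutes c).symm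
          rw [map_one, mul_one]) (fun m => by
          refine (FixedSmooth.L_single _ _ _ _).trans ?_
          rw [map_one, one_mul]
          rfl)
      rw [RingHom.mem_ker, hL, RingHom.comp_apply, Ideal.Quotient.eq_zero_iff_mem.2 hj, map_zero]
    have hlr := hmul (i₁.toRingHom.toMonoidHom.comp g) (i₂.toRingHom.toMonoidHom.comp g) (hpt i₁) (hpt i₂)
    refine ⟨{ Ideal.Quotient.lift J _ hlr with commutes' := fun c => ?_ }, fun m => ?_⟩
    · show Ideal.Quotient.lift J _ hlr (Ideal.Quotient.mk J (algebraMap κ _ c)) = _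
      rw [Ideal.Quotient.lift_mk]
      simp
    · show Ideal.Quotient.lift J _ hlr (Ideal.Quotient.mk J (of κ G m)) = _
      rw [Ideal.Quotient.lift_mk]
      simp
  obtain ⟨Δ, hΔ'⟩ := key (B ⊗[κ] B) Algebra.TensorProduct.includeLeft Algebra.TensorProduct.includeRight
  have hΔ : ∀ m, Δ (g m) = g m ⊗ₜ g m := fun m => by
    rw [hΔ' m]
    simp [Algebra.TensorProduct.tmul_mul_tmul]
  have hg : ∀ m, IsUnit (g m) := fun m => (Group.isUnit m).map g
  have li : LinearIndepOn κ id (Set.range g) := linearIndepOn_gl Δ.toLinearMap _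
    (by rintro _ ⟨m, rfl⟩; exact hΔ m) (by rintro ⟨m, hm⟩; exact (hg m).ne_zero hm)
  have hfac : ∀ m m', g m = g m' → χ m = χ m' := fun m m' h => by
    have h1 : g (m * m'⁻¹) = 1 := by rw [map_mul, h, ← map_mul, mul_inv_cancel, map_one]
    have h2 := hχ (m * m'⁻¹) (Ideal.Quotient.eq_zero_iff_mem.1 (by
      show Ideal.Quotient.mk J (single (m * m'⁻¹) 1 - 1) = 0
      rw [map_sub, map_one, sub_eq_zero]
      exact h1))
    calc χ m = χ (m * m'⁻¹) * χ m' := by rw [← map_mul, inv_mul_cancel_right]
      _ = χ m' := by rw [h2, one_mul]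
  let gR : G → Set.range g := Set.rangeFactorization g
  let χ' : Set.range g → D := fun b => χ b.2.choose
  have hχ' : ∀ m, χ' (gR m) = χ m := fun m => hfac _ _ (gR m).2.choose_spec
  intro j hj
  let c : Set.range g →₀ κ := j.coeff.mapDomain gR
  have e1 : ∀ z : MonoidAlgebra κ G, Ideal.Quotient.mk J z =
      Finsupp.linearCombination κ (fun b : Set.range g => (b : B)) (z.coeff.mapDomain gR) := fun z => by
    induction z using MonoidAlgebra.induction_linear with
    | zero => simp
    | add a b ha hb => simp [Finsupp.mapDomain_add, ha, hb]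
    | single m a =>
      rw [show (single m a : MonoidAlgebra κ G) = a • of κ G m by simp]
      simp only [smul_single', MonoidAlgebra.of_apply, mul_one, MonoidAlgebra.coeff_single, Finsupp.mapDomain_single,
        Finsupp.linearCombination_single]
      show Ideal.Quotient.mk J (single m a) = a • Ideal.Quotient.mk J (single m 1)
      rw [← Ideal.Quotient.mkₐ_eq_mk κ, ← map_smul]
      simp
  have e2 : ∀ z : MonoidAlgebra κ G, FixedSmooth.L (algebraMap κ D) χ z =
      Finsupp.linearCombination κ χ' (z.coeff.mapDomain gR) := fun z => by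
    induction z using MonoidAlgebra.induction_linear with
    | zero => simp
    | add a b ha hb => simp [Finsupp.mapDomain_add, ha, hb]
    | single m a =>
      rw [FixedSmooth.L_single]
      simp [hχ', Algebra.smul_def]
  have hc : c = 0 := by
    refine linearIndependent_iff.1 li c ?_
    have := (e1 j).symm.trans (Ideal.Quotient.eq_zero_iff_mem.2 hj)
    exact this
  rw [RingHom.mem_ker, e2, show j.coeff.mapDomain gR = 0 from hc, map_zero]

end Groth.Agent.MultKer
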